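import Cfsg.Agent.Lib.SolvBlock.Basic

/-!
# Uniform class number bounds for all subgroups of a group
-/

set_option autoImplicit false

namespace CfsgLib.SolvLinClass

open scoped Classical

/-- Every subgroup has at most `b` conjugacy classes. -/
def CB (Q : Type*) [Group Q] (b : ℕ) : Prop :=
  ∀ X : Subgroup Q, Nat.card (ConjClasses X) ≤ b

theorem CB.mono {Q : Type*} [Group Q] {a b : ℕ} (h : CB Q a) (hab : a ≤ b) : CB Q b :=
  fun X => (h X).trans hab

theorem cb_of_injective {Q R : Type*} [Group Q] [Group R] {b : ℕ} (f : Q →* R) (hf : Function.Injective f)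
    (h : CB R b) : CB Q b := fun X =>
  (CfsgLib.SolvBlock.classNum_equiv (X.equivMapOfInjective f hf)).trans_le (h _)

theorem cb_of_card {Q : Type*} [Group Q] [Finite Q] {b : ℕ} (h : Nat.card Q ≤ b) : CB Q b := fun X =>
  ((CfsgLib.SolvBlock.classNum_le_card X).trans (Subgroup.card_le_card_group X)).trans h

theorem cb_of_subsingleton {Q : Type*} [Group Q] [Subsingleton Q] {b : ℕ} (hb : 1 ≤ b) : CB Q b :=
  cb_of_card ((Nat.card_of_subsingleton (1 : Q)).trans_le hb)

/-- An extension. -/
theorem cb_of_ker {Q R : Type*} [Group Q] [Finite Q] [Group R] {a b : ℕ} (f : Q →* R) (hk : CB f.ker a)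
    (hR : CB R b) : CB Q (a * b) := by
  intro X
  let g : X →* R := f.comp X.subtype
  refine (CfsgLib.SolvBlock.classNum_le_mul g.ker).trans (Nat.mul_le_mul ?_ ?_)
  · refine le_of_eq_of_le (CfsgLib.SolvBlock.classNum_equiv ?_) (hk (X.subgroupOf f.ker))
    exact
      { toFun := fun x => ⟨⟨(x : X), x.2⟩, (x : X).2⟩
        invFun := fun x => ⟨⟨((x : f.ker) : Q), x.2⟩, (x : f.ker).2⟩
        left_inv := fun _ => rfl
        right_inv := fun _ => rfl
        map_mul' := fun _ _ => rfl }
  · exact (CfsgLib.SolvBlock.classNum_equiv (QuotientGroup.quotientKerEquivRange g)).trans_le (hR _)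

theorem cb_prod {A B : Type*} [Group A] [Finite A] [Group B] [Finite B] {a b : ℕ} (hA : CB A a)
    (hB : CB B b) : CB (A × B) (a * b) := by
  refine cb_of_ker (MonoidHom.snd A B) (cb_of_injective
    ((MonoidHom.fst A B).comp (MonoidHom.snd A B).ker.subtype) ?_ hA) hB
  intro x y h
  exact Subtype.ext (Prod.ext h ((x.2 : (x : A × B).2 = 1).trans (y.2 : (y : A × B).2 = 1).symm))

theorem cb_pi {a : ℕ} : ∀ {n : ℕ} {Q : Fin n → Type*} [∀ i, Group (Q i)] [∀ i, Finite (Q i)],
    (∀ i, CB (Q i) a) → CB (∀ i, Q i) (a ^ n) := by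
  intro n
  induction n with
  | zero =>
    intro Q _ _ _
    exact cb_of_subsingleton (le_of_eq (pow_zero a).symm)
  | succ n ih =>
    intro Q _ _ h
    rw [pow_succ]
    refine cb_of_ker (Pi.evalMonoidHom Q 0) (cb_of_injective
      ((Pi.monoidHom fun i : Fin n => Pi.evalMonoidHom Q i.succ).comp (Pi.evalMonoidHom Q 0).ker.subtype)
      ?_ (ih (Q := fun i => Q i.succ) fun i => h i.succ)) (h 0)
    intro x y hxy
    refine Subtype.ext (funext fun i => ?_)
    induction i using Fin.cases with
    | zero => exact (x.2 : (x : ∀ i, Q i) 0 = 1).trans (y.2 : (y : ∀ i, Q i) 0 = 1).symm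
    | succ j => exact congrFun hxy j

theorem cb_pi_fintype {ι : Type*} [Fintype ι] {Q : ι → Type*} [∀ i, Group (Q i)] [∀ i, Finite (Q i)]
    {a : ℕ} (h : ∀ i, CB (Q i) a) : CB (∀ i, Q i) (a ^ Fintype.card ι) := by
  let e := (Fintype.equivFin ι).symm
  refine cb_of_injective (Pi.monoidHom fun j => Pi.evalMonoidHom Q (e j)) ?_
    (cb_pi (Q := fun j => Q (e j)) fun j => h (e j))
  intro x y hxy
  funext i
  obtain ⟨j, rfl⟩ := e.surjective i
  exact congrFun hxy j

/-- All elements outside `T` have centralisers of order at most `M`. -/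
theorem cb_of_centralizers {S : Type*} [Group S] [Finite S] (T : Finset S) (M : ℕ)
    (h : ∀ x : S, x ∉ T → Nat.card {y : S // y * x = x * y} ≤ M) : CB S (T.card + M) := by
  intro X
  cases nonempty_fintype X
  have h1 : Nat.card {p : X × X // Commute p.1 p.2} = ∑ x : X, Nat.card {y : X // Commute x y} := by
    rw [Nat.card_congr (Equiv.subtypeProdEquivSigmaSubtype fun (x y : X) => Commute x y), Nat.card_sigma]
  have h2 : Nat.card (ConjClasses X) * Nat.card X ≤ (T.card + M) * Nat.card X := by
    rw [← card_comm_eq_card_conjClasses_mul_card, h1, add_mul]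
    rw [← Finset.sum_filter_add_sum_filter_not Finset.univ (fun x : X => (x : S) ∈ T)]
    refine Nat.add_le_add ?_ ?_
    · refine (Finset.sum_le_card_nsmul _ _ (Nat.card X) fun x _ => ?_).trans ?_
      · exact Nat.card_le_card_of_injective _ Subtype.val_injective
      rw [smul_eq_mul]
      refine Nat.mul_le_mul_right _ ?_
      refine Finset.card_le_card_of_injOn (fun x : X => (x : S)) (fun x hx => ?_) Subtype.val_injective.injOn
      simp only [Finset.coe_filter, Set.mem_ofPred_eq] at hx
      exact hx.2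
    · refine (Finset.sum_le_card_nsmul _ _ M fun x hx => ?_).trans ?_
      · rw [Finset.mem_filter] at hx
        refine le_trans (Nat.card_le_card_of_injective (fun y : {y : X // Commute x y} =>
          (⟨((y : X) : S), congrArg Subtype.val y.2.eq.symm⟩ : {z : S // z * (x : S) = (x : S) * z})) ?_) (h _ hx.2)
        intro y z hyz
        exact Subtype.ext (Subtype.ext (congrArg Subtype.val hyz :))
      rw [smul_eq_mul, mul_comm M (Nat.card X), Nat.card_eq_fintype_card]
      exact Nat.mul_le_mul_right _ (Finset.card_filter_le _ _)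
  exact Nat.le_of_mul_le_mul_right h2 Nat.card_pos

/-- An order bound with the `5/8` margin. -/
theorem cb_of_five_eighths {Q : Type*} [Group Q] [Finite Q] {b : ℕ} (hcard : 5 * Nat.card Q ≤ 8 * b + 7)
    (hQ : ¬ ∀ x y : Q, x * y = y * x) (hb : Nat.card Q ≤ 2 * b + 1) : CB Q b := by
  intro X
  by_cases hX : ∀ x y : X, x * y = y * x
  · have htop : X ≠ ⊤ := fun h => hQ fun x y =>
      congrArg Subtype.val (hX ⟨x, h ▸ Subgroup.mem_top x⟩ ⟨y, h ▸ Subgroup.mem_top y⟩)
    have h1 : Nat.card X * X.index = Nat.card Q := Subgroup.card_mul_index X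
    have h2 : 2 ≤ X.index := X.one_lt_index_of_ne_top htop
    have := CfsgLib.SolvBlock.classNum_le_card X
    nlinarith
  · have h1 := CfsgLib.SolvBlock.eight_mul_classNum_le hX
    have h2 := Subgroup.card_le_card_group X
    omega

end CfsgLib.SolvLinClass
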