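import Cfsg.Agent.Lib.SolvLinClass.Basic
import Cfsg.Agent.Lib.SolvBlock.SpLeaf
import Cfsg.Agent.Lib.SolBase.Main
import Cfsg.Agent.Lib.Linear.Sp4Two
import Cfsg.Agent.Lib.FGStruct.BurnsideBasis
import Cfsg.Agent.Lib.Components.Subnormal

/-!
# Class numbers of all subgroups of an irreducible solvable symplectic group
-/

set_option autoImplicit false
set_option linter.style.haveILetI false
set_option maxHeartbeats 1000000

namespace CfsgLib.SolvLinClass

open Matrix Cfsg CfsgLib.SolvBlock

universe u

/-- An abelian group of exponent `3` acting faithfully on a binary space is small (in universe zero). -/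
theorem sq_card_le_aux : ∀ (n : ℕ) (V : Type) [AddCommGroup V] [Module (ZMod 2) V] [Finite V],
    Module.finrank (ZMod 2) V = n → ∀ (E : Type) [Group E] [Finite E], (∀ x y : E, x * y = y * x) →
      (∀ x : E, x ^ 3 = 1) → ∀ ρ : E →* Module.End (ZMod 2) V, Function.Injective ρ →
      Nat.card E ^ 2 ≤ 3 ^ n := by
  intro n
  induction n using Nat.strong_induction_on with
  | _ n ih =>
  intro V _ _ _ hn E _ _ hc he ρ hρ
  classical
  have hcancel : ∀ v : V, v + v = 0 := fun v => by
    rw [← two_smul (ZMod 2) v, show (2 : ZMod 2) = 0 from rfl, zero_smul]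
  have hap : ∀ (x y : E) (v : V), ρ x (ρ y v) = ρ (x * y) v := fun x y v => by rw [map_mul]; rfl
  have hcube : ∀ x : E, x * (x * x) = 1 := fun x => by rw [← pow_two, ← pow_succ', he]
  have hcube' : ∀ x : E, x * x * x = 1 := fun x => by rw [mul_assoc, hcube]
  have hone : ∀ v : V, ρ 1 v = v := fun v => by rw [map_one, Module.End.one_apply]
  by_cases hex : ∃ t : E, t ≠ 1 ∧ ∃ v : V, v ≠ 0 ∧ ρ t v = v
  · obtain ⟨t, ht, v₀, hv₀, htv₀⟩ := hex
    let W₁ : Submodule (ZMod 2) V := LinearMap.ker (ρ t - 1)
    let W₂ : Submodule (ZMod 2) V := LinearMap.ker (ρ (t * t) + ρ t + 1)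
    have hm₁ : ∀ v, v ∈ W₁ ↔ ρ t v = v := fun v => by simp [W₁, sub_eq_zero]
    have hm₂ : ∀ v, v ∈ W₂ ↔ ρ (t * t) v + ρ t v + v = 0 := fun v => by simp [W₂]
    have ht3 : t * (t * t) = 1 := by rw [← he t, pow_succ, pow_two, mul_assoc]
    have ht4 : t * t * (t * t) = t := by rw [mul_assoc, ht3, mul_one]
    have hi₁ : ∀ x : E, ∀ v ∈ W₁, ρ x v ∈ W₁ := fun x v hv => by
      rw [hm₁] at hv ⊢
      rw [hap, hc, ← hap, hv]
    have hi₂ : ∀ x : E, ∀ v ∈ W₂, ρ x v ∈ W₂ := fun x v hv => by
      rw [hm₂] at hv ⊢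
      rw [hap, hap, hc (t * t) x, hc t x, ← hap x (t * t), ← hap x t, ← map_add, ← map_add, hv, map_zero]
    have hcompl : IsCompl W₁ W₂ := by
      refine IsCompl.of_eq ((Submodule.eq_bot_iff _).2 fun v hv => ?_) (Submodule.eq_top_iff'.2 fun v => ?_)
      · obtain ⟨h1, h2⟩ := Submodule.mem_inf.1 hv
        rw [hm₁] at h1
        rw [hm₂, ← hap, h1, h1] at h2
        rwa [hcancel, zero_add] at h2
      · refine Submodule.mem_sup.2 ⟨v + ρ t v + ρ (t * t) v, (hm₁ _).2 ?_, ρ t v + ρ (t * t) v, (hm₂ _).2 ?_, ?_⟩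
        · rw [map_add, map_add, hap, hap, ht3, map_one, Module.End.one_apply]
          abel
        · rw [map_add, map_add, hap, hap, hap, hap, hcube', ht4, hcube, hone]
          calc v + ρ t v + (ρ (t * t) v + v) + (ρ t v + ρ (t * t) v)
              = (v + v) + (ρ t v + ρ t v) + (ρ (t * t) v + ρ (t * t) v) := by abel
            _ = 0 := by simp [hcancel]
        · calc v + ρ t v + ρ (t * t) v + (ρ t v + ρ (t * t) v)
              = v + (ρ t v + ρ t v) + (ρ (t * t) v + ρ (t * t) v) := by abel
            _ = v := by simp [hcancel]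
    have h₁bot : W₁ ≠ ⊥ := fun h => hv₀ ((Submodule.eq_bot_iff _).1 h v₀ ((hm₁ _).2 htv₀))
    have h₁top : W₁ ≠ ⊤ := fun h => ht (hρ (LinearMap.ext fun v => by
      rw [map_one]
      exact (hm₁ v).1 (h ▸ Submodule.mem_top)))
    have h₂top : W₂ ≠ ⊤ := fun h => h₁bot (by simpa [h] using hcompl.inf_eq_bot)
    have hadd := Submodule.finrank_add_eq_of_isCompl hcompl
    have hlt₁ := Submodule.finrank_lt h₁top
    have hlt₂ := Submodule.finrank_lt h₂top
    rw [hn] at hadd hlt₁ hlt₂
    let res : ∀ (W : Submodule (ZMod 2) V), (∀ x : E, ∀ v ∈ W, ρ x v ∈ W) → E →* Module.End (ZMod 2) W :=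
      fun W hW =>
      { toFun := fun x => (ρ x).restrict (hW x)
        map_one' := LinearMap.ext fun v => Subtype.ext (hone v)
        map_mul' := fun x y => LinearMap.ext fun v => Subtype.ext (hap x y v).symm }
    set g := (res W₁ hi₁).toHomUnits with hg
    haveI : Finite g.range := Finite.of_surjective _ g.rangeRestrict_surjective
    have hK := ih _ hlt₂ W₂ rfl g.ker (fun x y => Subtype.ext (hc x y)) (fun x => Subtype.ext (he x))
      ((res W₂ hi₂).comp g.ker.subtype) (fun x y hxy => Subtype.ext (hρ (LinearMap.ext fun v => by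
        obtain ⟨v₁, hv₁, v₂, hv₂, rfl⟩ := Submodule.mem_sup.1
          (hcompl.sup_eq_top.symm ▸ Submodule.mem_top : v ∈ W₁ ⊔ W₂)
        have e₁ : ∀ z : g.ker, ρ (z : E) v₁ = v₁ := fun z =>
          congrArg (fun u : (Module.End (ZMod 2) W₁)ˣ => (((u : Module.End (ZMod 2) W₁) ⟨v₁, hv₁⟩ : W₁) : V)) z.2
        have e₂ : ρ (x : E) v₂ = ρ (y : E) v₂ :=
          congrArg (fun u : Module.End (ZMod 2) W₂ => ((u ⟨v₂, hv₂⟩ : W₂) : V)) hxy
        rw [map_add, map_add, e₁, e₁, e₂])))
    have hR := ih _ hlt₁ W₁ rfl g.range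
      (by rintro ⟨_, x, rfl⟩ ⟨_, y, rfl⟩; exact Subtype.ext (by simp [← map_mul, hc x y]))
      (by rintro ⟨_, x, rfl⟩; exact Subtype.ext (by simp [← map_pow, he x]))
      ((Units.coeHom _).comp g.range.subtype) (fun x y h => Subtype.ext (Units.ext h))
    calc Nat.card E ^ 2 = (Nat.card g.ker * Nat.card g.range) ^ 2 := by
          rw [← Subgroup.index_ker, Subgroup.card_mul_index]
      _ = Nat.card g.ker ^ 2 * Nat.card g.range ^ 2 := mul_pow _ _ _
      _ ≤ 3 ^ Module.finrank (ZMod 2) W₂ * 3 ^ Module.finrank (ZMod 2) W₁ := Nat.mul_le_mul hK hR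
      _ = 3 ^ n := by rw [← pow_add, add_comm, hadd]
  · push Not at hex
    have hfree : ∀ x : E, x ≠ 1 → ∀ v, ρ x v = v → v = 0 := fun x hx v h => by
      by_contra hv
      exact hex x hx v hv h
    have hsum : ∀ x : E, x ≠ 1 → ∀ v, ρ (x * x) v + ρ x v + v = 0 := fun x hx v => hfree x hx _ (by
      rw [map_add, map_add, hap, hap, hcube, hone]
      abel)
    rcases subsingleton_or_nontrivial V with hV | hV
    · haveI : Subsingleton E := ⟨fun x y => hρ (LinearMap.ext fun v => Subsingleton.elim _ _)⟩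
      rw [Nat.card_of_subsingleton (1 : E), one_pow]
      exact Nat.one_le_pow _ _ (by norm_num)
    rcases (show n = 0 ∨ n = 1 ∨ 2 ≤ n by omega) with h0 | h1 | h2
    · haveI := hV
      have := Module.finrank_pos (R := ZMod 2) (M := V)
      omega
    · haveI : Subsingleton E := ⟨fun x y => by
        have key : ∀ z : E, z = 1 := fun z => by
          by_contra hz
          obtain ⟨v, hv⟩ := exists_ne (0 : V)
          have hcard : Nat.card V = 2 := by
            rw [Module.natCard_eq_pow_finrank (K := ZMod 2), hn, h1, Nat.card_zmod, pow_one]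
          have h2 : ρ z v ≠ 0 := fun h => hv (by rw [← hone v, ← hcube' z, ← hap, h, map_zero])
          obtain ⟨a, b, hab, huniv⟩ := Nat.card_eq_two_iff.1 hcard
          have hmem : ∀ w : V, w = a ∨ w = b := fun w => by
            have : w ∈ ({a, b} : Set V) := huniv ▸ Set.mem_univ w
            simpa using this
          have : ρ z v = v := by
            rcases hmem v with e | e <;> rcases hmem (ρ z v) with e' | e' <;> rcases hmem 0 with e0 | e0 <;>
              simp_all
          exact hv (hfree z hz v this)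
        rw [key x, key y]⟩
      rw [Nat.card_of_subsingleton (1 : E), one_pow]
      exact Nat.one_le_pow _ _ (by norm_num)
    · have hle : Nat.card E ≤ 3 := by
        by_cases hall : ∀ x : E, x = 1
        · haveI : Subsingleton E := ⟨fun x y => by rw [hall x, hall y]⟩
          rw [Nat.card_of_subsingleton (1 : E)]
          norm_num
        push Not at hall
        obtain ⟨t, ht⟩ := hall
        have hmem : ∀ s : E, s ∈ ({1, t, t * t} : Finset E) := fun s => by
          simp only [Finset.mem_insert, Finset.mem_singleton]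
          by_contra! hs
          obtain ⟨hs1, hst, hst2⟩ := hs
          obtain ⟨v, hv⟩ := exists_ne (0 : V)
          set w := ρ s v + ρ (t * t) v with hw
          have e1 : ρ s w + ρ t w = 0 := by
            have hS := hsum s hs1 v
            have hT : ρ (s * (t * t)) v + ρ (s * t) v + ρ s v = 0 := by
              have := hsum t ht (ρ s v)
              rwa [hap, hap, hc (t * t) s, hc t s] at this
            rw [hw, map_add, map_add, hap, hap, hap, hap, hcube, hone, hc t s]
            calc ρ (s * s) v + ρ (s * (t * t)) v + (ρ (s * t) v + v)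
                = (ρ (s * (t * t)) v + ρ (s * t) v + ρ s v) + (ρ (s * s) v + ρ s v + v)
                    + (- (ρ s v + ρ s v)) := by abel
              _ = 0 := by rw [hT, hS, hcancel (ρ s v)]; simp
          have e2 : ρ s w = ρ t w := by
            rw [eq_neg_of_add_eq_zero_left e1, neg_eq_of_add_eq_zero_left (hcancel _)]
          have e3 : w = 0 := hfree (t⁻¹ * s) (fun h => hst (inv_mul_eq_one.1 h).symm) w (by
            rw [← hap, e2, hap, inv_mul_cancel, map_one, Module.End.one_apply])
          have e4 : ρ s v = ρ (t * t) v := by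
            rw [hw] at e3
            rw [eq_neg_of_add_eq_zero_left e3, neg_eq_of_add_eq_zero_left (hcancel _)]
          refine hv (hfree ((t * t)⁻¹ * s) (fun h => hst2 (inv_mul_eq_one.1 h).symm) v ?_)
          rw [← hap, e4, hap, inv_mul_cancel, map_one, Module.End.one_apply]
        refine le_trans ?_ (Finset.card_le_three (a := 1) (b := t) (c := t * t))
        haveI : Fintype E := Fintype.ofFinite E
        rw [Nat.card_eq_fintype_card, ← Finset.card_univ]
        exact Finset.card_le_card fun s _ => hmem s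
      calc Nat.card E ^ 2 ≤ 3 ^ 2 := Nat.pow_le_pow_left hle 2
        _ ≤ 3 ^ n := Nat.pow_le_pow_right (by norm_num) h2

/-- An abelian group of exponent `3` acting faithfully on a binary space is small. -/
theorem sq_card_le_of_exp_three {V : Type} [AddCommGroup V] [Module (ZMod 2) V] [Finite V]
    {E : Type u} [Group E] [Finite E] (hc : ∀ x y : E, x * y = y * x) (he : ∀ x : E, x ^ 3 = 1)
    (ρ : E →* Module.End (ZMod 2) V) (hρ : Function.Injective ρ) :
    Nat.card E ^ 2 ≤ 3 ^ Module.finrank (ZMod 2) V := by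
  set g := ρ.toHomUnits with hg
  haveI : Finite g.range := Finite.of_surjective _ g.rangeRestrict_surjective
  have hginj : Function.Injective g := fun x y h => hρ (congrArg Units.val h :)
  rw [Nat.card_congr (MonoidHom.ofInjective hginj).toEquiv]
  refine sq_card_le_aux _ V rfl g.range ?_ ?_ ((Units.coeHom _).comp g.range.subtype)
    (fun x y h => Subtype.ext (Units.ext h))
  · rintro ⟨_, x, rfl⟩ ⟨_, y, rfl⟩
    exact Subtype.ext (by simp [← map_mul, hc x y])
  · rintro ⟨_, x, rfl⟩
    exact Subtype.ext (by simp [← map_pow, he x])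

/-- The symplectic group of order `6`. -/
theorem cb_sp_one_two : CB (symplecticGroup (Fin 1) (ZMod 2)) 3 := by
  have hcard : Nat.card (symplecticGroup (Fin 1) (ZMod 2)) = 6 := by
    rw [CfsgLib.Linear.Symp.card_symplectic, ZMod.card]; norm_num
  refine cb_of_five_eighths (by rw [hcard]; norm_num) ?_ (by rw [hcard]; norm_num)
  intro hcomm
  let A : Matrix (Fin 1 ⊕ Fin 1) (Fin 1 ⊕ Fin 1) (ZMod 2) := Matrix.fromBlocks 1 1 0 1
  let B : Matrix (Fin 1 ⊕ Fin 1) (Fin 1 ⊕ Fin 1) (ZMod 2) := Matrix.fromBlocks 1 0 1 1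
  have hA : A ∈ symplecticGroup (Fin 1) (ZMod 2) := SymplecticGroup.mem_iff.2 (by decide +kernel)
  have hB : B ∈ symplecticGroup (Fin 1) (ZMod 2) := SymplecticGroup.mem_iff.2 (by decide +kernel)
  have h : A * B = B * A := congrArg Subtype.val (hcomm ⟨A, hA⟩ ⟨B, hB⟩)
  revert h
  decide +kernel

/-- Centralizers in the symplectic group of order `24`. -/
theorem sp13_centralizer : ∀ A : Matrix (Fin 1 ⊕ Fin 1) (Fin 1 ⊕ Fin 1) (ZMod 3),
    A * Matrix.J (Fin 1) (ZMod 3) * Aᵀ = Matrix.J (Fin 1) (ZMod 3) → A ≠ 1 → A ≠ -1 →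
    (Finset.univ.filter fun B : Matrix (Fin 1 ⊕ Fin 1) (Fin 1 ⊕ Fin 1) (ZMod 3) =>
      B * Matrix.J (Fin 1) (ZMod 3) * Bᵀ = Matrix.J (Fin 1) (ZMod 3) ∧ B * A = A * B).card ≤ 6 := by
  decide +kernel

/-- The symplectic group of order `24`. -/
theorem cb_sp_one_three : CB (symplecticGroup (Fin 1) (ZMod 3)) 8 := by
  classical
  cases nonempty_fintype (symplecticGroup (Fin 1) (ZMod 3))
  refine (cb_of_centralizers (Finset.univ.filter fun x : symplecticGroup (Fin 1) (ZMod 3) =>
    x.1 = 1 ∨ x.1 = -1) 6 fun x hx => ?_).mono ?_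
  · simp only [Finset.mem_filter, Finset.mem_univ, true_and, not_or] at hx
    refine le_trans ?_ (sp13_centralizer x.1 (SymplecticGroup.mem_iff.1 x.2) hx.1 hx.2)
    rw [← Fintype.card_subtype, Fintype.card_eq_nat_card]
    exact Nat.card_le_card_of_injective
      (fun y => ⟨y.1.1, SymplecticGroup.mem_iff.1 y.1.2, congrArg Subtype.val y.2⟩)
      fun y z h => Subtype.ext (Subtype.ext (congrArg Subtype.val h :))
  · refine Nat.add_le_add_right (le_trans (Finset.card_le_card_of_injOn (fun x => x.1) ?_
      Subtype.val_injective.injOn) (Finset.card_le_two (a := 1) (b := -1))) 6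
    intro x hx
    simp only [Finset.coe_filter, Finset.mem_univ, true_and, Set.mem_ofPred_eq] at hx
    simpa using hx

section

variable {r a : ℕ} [hr : Fact r.Prime] {H : Type u} [Group H] [Finite H]
  (f : H →* symplecticGroup (Fin a) (ZMod r)) (hf : Function.Injective f)
  (hirr : ∀ W : Submodule (ZMod r) (Fin a ⊕ Fin a → ZMod r), (∀ h, ∀ w ∈ W, (f h).1 *ᵥ w ∈ W) → W = ⊥ ∨ W = ⊤)

include hf hirr in
theorem fix_core_eq_zero {q : ℕ} (hne : pCore q H ≠ ⊥) (v : Fin a ⊕ Fin a → ZMod r)
    (hv : ∀ h ∈ pCore q H, (f h).1 *ᵥ v = v) : v = 0 := by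
  let W : Submodule (ZMod r) (Fin a ⊕ Fin a → ZMod r) :=
    { carrier := {w | ∀ h ∈ pCore q H, (f h).1 *ᵥ w = w}
      zero_mem' := fun h _ => Matrix.mulVec_zero _
      add_mem' := fun {x y} hx hy h hh => by rw [Matrix.mulVec_add, hx h hh, hy h hh]
      smul_mem' := fun c x hx h hh => by rw [Matrix.mulVec_smul, hx h hh] }
  haveI : (pCore q H).Normal := CfsgLib.Solvable.pCore_normal q H
  have hinv : ∀ g, ∀ w ∈ W, (f g).1 *ᵥ w ∈ W := by
    intro g w hw h hh
    have h' : g⁻¹ * h * g ∈ pCore q H := by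
      simpa using (inferInstance : (pCore q H).Normal).conj_mem h hh g⁻¹
    have e := congrArg (fun x => (f g).1 *ᵥ x) (hw _ h')
    simp only [Matrix.mulVec_mulVec, ← Submonoid.coe_mul, ← map_mul] at e
    rw [Matrix.mulVec_mulVec, ← Submonoid.coe_mul, ← map_mul]
    simpa [← mul_assoc] using e
  rcases hirr W hinv with hW | hW
  · exact (Submodule.eq_bot_iff _).1 hW v hv
  · refine absurd ((Subgroup.eq_bot_iff_forall _).2 fun h hh => ?_) hne
    refine hf (Subtype.ext (Matrix.ext_of_mulVec_single fun i => ?_))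
    rw [map_one, Submonoid.coe_one, Matrix.one_mulVec]
    exact (show (Pi.single i (1 : ZMod r) : Fin a ⊕ Fin a → ZMod r) ∈ W from hW ▸ Submodule.mem_top) h hh

include hf hirr in
theorem exists_triple [Group.IsSolvable H] :
    ∃ u v w : Fin a ⊕ Fin a → ZMod r, Function.Injective
      fun h : H => ((f h).1 *ᵥ u, (f h).1 *ᵥ v, (f h).1 *ᵥ w) := by
  letI : DistribMulAction H (Fin a ⊕ Fin a → ZMod r) :=
    { smul := fun h v => (f h).1 *ᵥ v
      one_smul := fun v => show (f 1).1 *ᵥ v = v by simp
      mul_smul := fun g h v => show (f (g * h)).1 *ᵥ v = (f g).1 *ᵥ ((f h).1 *ᵥ v) by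
        simp [Matrix.mulVec_mulVec]
      smul_zero := fun h => Matrix.mulVec_zero _
      smul_add := fun h v w => Matrix.mulVec_add _ _ _ }
  have hs : ∀ (h : H) v, h • v = (f h).1 *ᵥ v := fun _ _ => rfl
  haveI : FaithfulSMul H (Fin a ⊕ Fin a → ZMod r) :=
    ⟨fun {g h} e => hf (Subtype.ext (Matrix.ext_of_mulVec_single fun i => e _))⟩
  obtain ⟨u, v, w, h3⟩ := CfsgLib.SolBase.exists_three_vectors (A := H) (V := Fin a ⊕ Fin a → ZMod r)
    inferInstance fun U hU => by
      rcases hirr (AddSubgroup.toZModSubmodule r U) hU with h | h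
      · refine ⟨⊤, fun _ _ _ => AddSubgroup.mem_top _, ?_, sup_top_eq _⟩
        rw [inf_top_eq, AddSubgroup.eq_bot_iff_forall]
        exact (Submodule.eq_bot_iff _).1 h
      · refine ⟨⊥, fun a w hw => by rw [AddSubgroup.mem_bot.1 hw, smul_zero]; exact zero_mem _, inf_bot_eq _, ?_⟩
        rw [sup_bot_eq, AddSubgroup.eq_top_iff']
        exact fun x => (show x ∈ AddSubgroup.toZModSubmodule r U from h ▸ Submodule.mem_top)
  refine ⟨u, v, w, fun g h e => ?_⟩
  simp only [Prod.mk.injEq, ← hs] at e
  exact (inv_mul_eq_one.1 (h3 (h⁻¹ * g) (by rw [mul_smul, e.1, inv_smul_smul])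
    (by rw [mul_smul, e.2.1, inv_smul_smul]) (by rw [mul_smul, e.2.2, inv_smul_smul]))).symm

include hf hirr in
theorem card_le_cube [Group.IsSolvable H] : Nat.card H ≤ (r ^ (2 * a)) ^ 3 := by
  obtain ⟨u, v, w, hinj⟩ := exists_triple f hf hirr
  refine (Nat.card_le_card_of_injective _ hinj).trans (le_of_eq ?_)
  rw [Nat.card_prod, Nat.card_prod, Module.natCard_eq_pow_finrank (K := ZMod r), Nat.card_zmod,
    CfsgLib.SympGeom.finrank_space]
  ring

include hf hirr in
/-- The triple base with the preserved form. -/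
theorem card_le_triple [Group.IsSolvable H] (hr2 : r = 2) :
    Nat.card H ≤ r ^ (2 * a) * r ^ (2 * a) ∨
      2 * Nat.card H ≤ (r ^ (2 * a) - 1) * r ^ (2 * a) * r ^ (2 * a) := by
  classical
  obtain ⟨u, v, w, hinj⟩ := exists_triple f hf hirr
  have hV : Nat.card (Fin a ⊕ Fin a → ZMod r) = r ^ (2 * a) := by
    rw [Module.natCard_eq_pow_finrank (K := ZMod r), Nat.card_zmod, CfsgLib.SympGeom.finrank_space]
  by_cases hu : u = 0
  · left
    rw [← hV, ← Nat.card_prod]
    refine Nat.card_le_card_of_injective (fun h : H => ((f h).1 *ᵥ v, (f h).1 *ᵥ w)) fun g h e => hinj ?_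
    simp only [Prod.mk.injEq] at e
    simp [hu, e.1, e.2]
  right
  have hu' : ∀ h, (f h).1 *ᵥ u ≠ 0 := fun h e => hu (by
    have := congrArg (fun x => (f h⁻¹).1 *ᵥ x) e
    simpa [Matrix.mulVec_mulVec, ← Submonoid.coe_mul, ← map_mul] using this)
  have hy : ∀ x : {x : Fin a ⊕ Fin a → ZMod r // x ≠ 0}, ∃ y, Cfsg.sympForm a (ZMod r) x.1 y = 1 := fun x => by
    obtain ⟨y, hy⟩ := CfsgLib.Linear.Symp.exists_form_ne_zero x.2
    refine ⟨(Cfsg.sympForm a (ZMod r) x.1 y)⁻¹ • y, ?_⟩
    rw [CfsgLib.Linear.Symp.form_smul_right, inv_mul_cancel₀ hy]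
  choose y₀ hy₀ using hy
  subst hr2
  let emb : H × ZMod 2 → {x : Fin a ⊕ Fin a → ZMod 2 // x ≠ 0} × (Fin a ⊕ Fin a → ZMod 2) × (Fin a ⊕ Fin a → ZMod 2) :=
    fun p => (⟨(f p.1).1 *ᵥ u, hu' _⟩, (f p.1).1 *ᵥ v + p.2 • y₀ ⟨(f p.1).1 *ᵥ u, hu' _⟩, (f p.1).1 *ᵥ w)
  have hemb : Function.Injective emb := by
    rintro ⟨g, i⟩ ⟨h, j⟩ e
    simp only [emb, Prod.mk.injEq, Subtype.mk.injEq] at e
    obtain ⟨e1, e2, e3⟩ := e
    have key : ∀ (g : H) (i : ZMod 2), Cfsg.sympForm a (ZMod 2) ((f g).1 *ᵥ u)
        ((f g).1 *ᵥ v + i • y₀ ⟨(f g).1 *ᵥ u, hu' g⟩) = Cfsg.sympForm a (ZMod 2) u v + i := fun g i => by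
      rw [CfsgLib.Linear.Symp.form_add_right, CfsgLib.Linear.Symp.form_mulVec (f g).2,
        CfsgLib.Linear.Symp.form_smul_right, hy₀ ⟨(f g).1 *ᵥ u, hu' g⟩, mul_one]
    have hij : i = j := by
      have := key g i
      rw [e2, e1, key h j] at this
      exact (add_left_cancel this).symm
    subst hij
    have e0 : (⟨(f g).1 *ᵥ u, hu' g⟩ : {x : Fin a ⊕ Fin a → ZMod 2 // x ≠ 0}) = ⟨(f h).1 *ᵥ u, hu' h⟩ :=
      Subtype.ext e1
    rw [e0, add_left_inj] at e2
    exact Prod.ext (hinj (Prod.ext e1 (Prod.ext e2 e3))) rfl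
  have := Nat.card_le_card_of_injective emb hemb
  rw [Nat.card_prod, Nat.card_prod, Nat.card_prod, Nat.card_zmod] at this
  have hne : Nat.card {x : Fin a ⊕ Fin a → ZMod 2 // x ≠ 0} = 2 ^ (2 * a) - 1 := by
    rw [← hV, Nat.card_eq_fintype_card, Fintype.card_subtype_compl, Fintype.card_subtype_eq,
      Nat.card_eq_fintype_card]
  rw [hne, hV] at this
  rw [mul_assoc]
  omega

include hf in
omit hirr in
/-- The order through the action on a self-centralising core. -/
theorem card_dvd_core [Group.IsSolvable H] (honly : ∀ q, q.Prime → q ≠ 3 → pCore q H = ⊥) :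
    Subgroup.centralizer (pCore 3 H : Set H) ≤ pCore 3 H ∧
    ∀ n d, Nat.card (pCore 3 H) = 3 ^ n → (frattini (pCore 3 H)).index = 3 ^ d →
      Nat.card H ∣ 3 ^ n * (3 ^ (d * (n - d)) * ∏ i ∈ Finset.range d, (3 ^ d - 3 ^ i)) := by
  haveI : Fact (Nat.Prime 3) := ⟨Nat.prime_three⟩
  have hFP : Cfsg.fittingSubgroup H ≤ pCore 3 H := by
    refine CfsgLib.Components.fitting_le_of_pCore_le fun q hq => ?_
    by_cases h : q = 3
    · rw [h]
    · rw [honly q hq h]; exact bot_le
  have hC : Subgroup.centralizer (pCore 3 H : Set H) ≤ pCore 3 H :=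
    ((Subgroup.centralizer_le hFP).trans CfsgLib.Solvable.centralizer_fittingSubgroup_le).trans hFP
  refine ⟨hC, fun n d hn hd => ?_⟩
  haveI : (pCore 3 H).Normal := CfsgLib.Solvable.pCore_normal 3 H
  set φ := MulAut.conjNormal (H := pCore 3 H) with hφ
  have hker : φ.ker ≤ pCore 3 H := fun h hh => hC (Subgroup.mem_centralizer_iff.2 fun y hy => by
    have := congrArg (fun ψ : MulAut (pCore 3 H) => ((ψ ⟨y, hy⟩ : pCore 3 H) : H)) hh
    simp only [hφ, MulAut.conjNormal_apply, MulAut.one_apply] at this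
    exact (mul_inv_eq_iff_eq_mul.1 this).symm)
  have hrange : Nat.card φ.range ∣ Nat.card (MulAut (pCore 3 H)) := Subgroup.card_subgroup_dvd_card _
  rw [← Subgroup.card_mul_index φ.ker, Subgroup.index_ker]
  exact Nat.mul_dvd_mul (hn ▸ Subgroup.card_dvd_of_le hker)
    (hrange.trans (CfsgLib.FGStruct.card_mulAut_dvd hn hd))

omit hr hirr in
/-- A group of order `144` is not a subgroup of the symmetric group of degree six. -/
theorem card_ne_144 (g : H →* Equiv.Perm (Fin 6)) (hg : Function.Injective g) : Nat.card H ≠ 144 := by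
  intro h144
  set K := g.range with hK
  have hKc : Nat.card K = 144 := (Nat.card_congr (MonoidHom.ofInjective hg).toEquiv).symm.trans h144
  have hidx : K.index = 5 := by
    have := Subgroup.card_mul_index K
    rw [hKc, Nat.card_perm, Nat.card_fin, show Nat.factorial 6 = 720 from rfl] at this
    omega
  have h2 : K.normalCore.index ≤ 120 := by
    rw [Subgroup.normalCore_eq_ker, Subgroup.index_ker]
    refine (Subgroup.card_le_card_group _).trans (le_of_eq ?_)
    rw [Nat.card_perm, ← Subgroup.index_eq_card, hidx]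
    rfl
  have h3 := Subgroup.card_mul_index K.normalCore
  rw [Nat.card_perm, Nat.card_fin, show Nat.factorial 6 = 720 from rfl] at h3
  have h6 : 6 ≤ Nat.card K.normalCore := by
    by_contra! h
    nlinarith
  haveI := alternatingGroup.isSimpleGroup (α := Fin 6) (by simp)
  rcases (inferInstance : (K.normalCore.subgroupOf (alternatingGroup (Fin 6))).Normal).eq_bot_or_eq_top with h | h
  · let s : K.normalCore →* ℤˣ := Equiv.Perm.sign.comp K.normalCore.subtype
    have hs : Function.Injective s := by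
      rw [injective_iff_map_eq_one]
      intro x hx
      have hxA : (x : Equiv.Perm (Fin 6)) ∈ alternatingGroup (Fin 6) := hx
      have : (⟨(x : Equiv.Perm (Fin 6)), hxA⟩ : alternatingGroup (Fin 6)) ∈
          K.normalCore.subgroupOf (alternatingGroup (Fin 6)) := x.2
      rw [h, Subgroup.mem_bot] at this
      exact Subtype.ext (congrArg Subtype.val this :)
    have := Nat.card_le_card_of_injective s hs
    rw [Nat.card_eq_fintype_card (α := ℤˣ), Fintype.card_units_int] at this
    omega
  · have hle : alternatingGroup (Fin 6) ≤ K :=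
      (Subgroup.subgroupOf_eq_top.1 h).trans K.normalCore_le
    have h360 : Nat.card (alternatingGroup (Fin 6)) = 360 := by
      have := two_mul_nat_card_alternatingGroup (α := Fin 6)
      rw [Nat.card_perm, Nat.card_fin, show Nat.factorial 6 = 720 from rfl] at this
      omega
    have := Subgroup.card_le_of_le hle
    omega

omit hirr in
/-- A group of order dividing `72` with a self-centralising normal abelian subgroup of order `9`. -/
theorem cb_of_nine (P : Subgroup H) [P.Normal] (hP : Nat.card P = 9) (hC : Subgroup.centralizer (P : Set H) ≤ P)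
    (hH : Nat.card H ∣ 72) : CB H 27 := by
  classical
  intro X
  by_cases hsmall : Nat.card X ≤ 27
  · exact (classNum_le_card X).trans hsmall
  push Not at hsmall
  obtain ⟨c, hc⟩ := (Subgroup.card_subgroup_dvd_card X).trans hH
  have hc2 : c ≤ 2 := by nlinarith
  have hX : Nat.card X = 36 ∨ Nat.card X = 72 := by
    interval_cases c <;> omega
  -- `P` lies in `X`
  have hPX : P ≤ X := by
    have h1 := Subgroup.card_mul_index (P.subgroupOf X)
    have h2 : (P.subgroupOf X).index ∣ P.index := Subgroup.relIndex_dvd_index_of_normal P X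
    have h3 : P.index ≤ 8 := by
      have := Subgroup.card_mul_index P
      have := Nat.le_of_dvd (by norm_num) hH
      nlinarith
    have h4 : (P.subgroupOf X).index ≤ 8 :=
      (Nat.le_of_dvd (Nat.pos_of_ne_zero Subgroup.index_ne_zero_of_finite) h2).trans h3
    have h5 : Nat.card (P.subgroupOf X) = Nat.card (P ⊓ X : Subgroup H) := by
      rw [← Nat.card_congr (Subgroup.subgroupOfEquivOfLe (inf_le_right : P ⊓ X ≤ X)).toEquiv,
        Subgroup.inf_subgroupOf_right]
    have h6 : Nat.card (P ⊓ X : Subgroup H) ∣ 9 := hP ▸ Subgroup.card_dvd_of_le inf_le_left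
    have h7 : Nat.card (P ⊓ X : Subgroup H) = 9 := by
      have h8 := Nat.le_of_dvd (by norm_num) h6
      interval_cases hh : Nat.card (P ⊓ X : Subgroup H) <;> simp_all <;> omega
    exact inf_eq_left.1 (Subgroup.eq_of_le_of_card_ge inf_le_left (by rw [h7, hP]))
  have hnc : ¬ ∀ x y : X, x * y = y * x := fun h => by
    have : X ≤ P := (fun x hx => hC (Subgroup.mem_centralizer_iff.2 fun y hy =>
      congrArg Subtype.val (h ⟨y, hPX hy⟩ ⟨x, hx⟩)))
    have := Subgroup.card_le_of_le this
    omega
  rcases hX with hX | hX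
  · have := eight_mul_classNum_le hnc
    omega
  cases nonempty_fintype X
  set P' := P.subgroupOf X with hP'
  have hP'c : Nat.card P' = 9 := by
    rw [hP', Nat.card_congr (Subgroup.subgroupOfEquivOfLe hPX).toEquiv, hP]
  have hCX : ∀ x : X, (∀ y ∈ P', y * x = x * y) → x ∈ P' := fun x h =>
    hC (Subgroup.mem_centralizer_iff.2 fun y hy => congrArg Subtype.val (h ⟨y, hPX hy⟩ hy))
  have hne : P' ≠ ⊤ := fun h => by
    rw [h, Subgroup.card_top, hX] at hP'c
    omega
  have hnoteq : ¬ P' ≤ Subgroup.center X := fun h => hne (eq_top_iff.2 fun x _ =>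
    hCX x fun y hy => (Subgroup.mem_center_iff.1 (h hy) x).symm)
  have hZP : Subgroup.center X ≤ P' := fun x hx =>
    hCX x fun y _ => Subgroup.mem_center_iff.1 hx y
  have hZ3 : Nat.card (Subgroup.center X) ≤ 3 := by
    have h1 : Nat.card (Subgroup.center X) ∣ 9 := hP'c ▸ Subgroup.card_dvd_of_le hZP
    have h2 : Nat.card (Subgroup.center X) ≠ 9 := fun h =>
      hnoteq (Subgroup.eq_of_le_of_card_ge hZP (by rw [h, hP'c])).ge
    have := Nat.le_of_dvd (by norm_num) h1
    interval_cases hh : Nat.card (Subgroup.center X) <;> simp_all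
  -- the two kinds of non-central elements
  have hout : ∀ x : X, x ∉ P' → Nat.card {y : X // Commute x y} ≤ 24 := by
    intro x hx
    let C : Subgroup X := Subgroup.centralizer {x}
    have hCc : Nat.card {y : X // Commute x y} = Nat.card C := Nat.card_congr (Equiv.subtypeEquivRight fun y =>
      ⟨fun h => Subgroup.mem_centralizer_singleton_iff.2 h.symm.eq,
       fun h => (Subgroup.mem_centralizer_singleton_iff.1 h).symm⟩)
    rw [hCc, ← Subgroup.card_mul_index (P'.subgroupOf C)]
    have h5 : Nat.card (P'.subgroupOf C) = Nat.card (P' ⊓ C : Subgroup X) := by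
      rw [← Nat.card_congr (Subgroup.subgroupOfEquivOfLe (inf_le_right : P' ⊓ C ≤ C)).toEquiv,
        Subgroup.inf_subgroupOf_right]
    have h6 : Nat.card (P' ⊓ C : Subgroup X) ∣ 9 := hP'c ▸ Subgroup.card_dvd_of_le inf_le_left
    have h7 : Nat.card (P' ⊓ C : Subgroup X) ≠ 9 := fun h => hx (hCX x fun y hy => by
      have : y ∈ P' ⊓ C :=
        (Subgroup.eq_of_le_of_card_ge inf_le_left (by rw [h, hP'c]) : P' ⊓ C = P').ge hy
      exact Subgroup.mem_centralizer_singleton_iff.1 this.2)
    have h8 : Nat.card (P' ⊓ C : Subgroup X) ≤ 3 := by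
      have := Nat.le_of_dvd (by norm_num) h6
      interval_cases hh : Nat.card (P' ⊓ C : Subgroup X) <;> simp_all
    have h9 : (P'.subgroupOf C).index ≤ 8 := by
      have h10 := Subgroup.card_mul_index P'
      rw [hP'c, hX] at h10
      have : (P'.subgroupOf C).index ∣ P'.index := Subgroup.relIndex_dvd_index_of_normal P' C
      have := Nat.le_of_dvd (by omega) this
      omega
    calc _ ≤ 3 * 8 := Nat.mul_le_mul (h5 ▸ h8) h9
      _ = 24 := rfl
  have hin : ∀ x : X, x ∉ Subgroup.center X → Nat.card {y : X // Commute x y} ≤ 36 := by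
    intro x hx
    let C : Subgroup X := Subgroup.centralizer {x}
    have hCc : Nat.card {y : X // Commute x y} = Nat.card C := Nat.card_congr (Equiv.subtypeEquivRight fun y =>
      ⟨fun h => Subgroup.mem_centralizer_singleton_iff.2 h.symm.eq,
       fun h => (Subgroup.mem_centralizer_singleton_iff.1 h).symm⟩)
    rw [hCc]
    have h2 : 2 ≤ C.index := C.one_lt_index_of_ne_top fun h => hx (Subgroup.mem_center_iff.2 fun y =>
      Subgroup.mem_centralizer_singleton_iff.1 (h ▸ Subgroup.mem_top y : y ∈ C))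
    have := Subgroup.card_mul_index C
    nlinarith
  have h1 : Nat.card {p : X × X // Commute p.1 p.2} = ∑ x : X, Nat.card {y : X // Commute x y} := by
    rw [Nat.card_congr (Equiv.subtypeProdEquivSigmaSubtype fun (x y : X) => Commute x y), Nat.card_sigma]
  rw [card_comm_eq_card_conjClasses_mul_card] at h1
  have h2 : ∑ x : X, Nat.card {y : X // Commute x y} ≤
      ∑ x : X, (24 + ((if x ∈ P' then 12 else 0) + (if x ∈ Subgroup.center X then 36 else 0))) := by
    refine Finset.sum_le_sum fun x _ => ?_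
    split_ifs with hp hz hz
    · exact (Finite.card_subtype_le _).trans (by omega)
    · exact (hin x hz).trans (by omega)
    · exact absurd (hZP hz) hp
    · exact (hout x hp).trans (by omega)
  rw [Finset.sum_add_distrib, Finset.sum_add_distrib, Finset.sum_const, ← Finset.sum_filter,
    ← Finset.sum_filter, Finset.sum_const, Finset.sum_const, Finset.card_univ, smul_eq_mul, smul_eq_mul,
    smul_eq_mul, ← Fintype.card_subtype, ← Fintype.card_subtype] at h2
  rw [Nat.card_eq_fintype_card] at hX hP'c hZ3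
  rw [show Fintype.card {x : X // x ∈ P'} = 9 by convert hP'c, hX] at h2
  have hZ3' : Fintype.card {x : X // x ∈ Subgroup.center X} ≤ 3 := by convert hZ3
  rw [Nat.card_eq_fintype_card (α := ↥X), hX] at h1
  omega

include hf hirr in
/-- The bound for every subgroup of an irreducible solvable subgroup of a symplectic group. -/
theorem cb_sp (ha : 1 ≤ a) [Group.IsSolvable H] : CB H (3 ^ (r ^ a - 1)) := by
  have hfix : ∀ q, q.Prime → pCore q H ≠ ⊥ → ∀ v, (∀ h ∈ pCore q H, (f h).1 *ᵥ v = v) → v = 0 :=
    fun q _ hne v hv => fix_core_eq_zero f hf hirr hne v hv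
  have hnc : ∀ q, q.Prime → pCore q H ≠ ⊥ → q ∣ r ^ (2 * a) - 1 := fun q hq hne =>
    dvd_of_core f hfix hq hne
  have hdvd := card_dvd_sp f hf
  rcases pow_le_three_pow hr.out ha with h | ⟨rfl, rfl | rfl | rfl⟩ | ⟨rfl, rfl | rfl⟩ | ⟨rfl, rfl | rfl | rfl⟩
  · exact cb_of_card ((Nat.le_of_dvd Nat.card_pos hdvd).trans ((card_sp_le r a).trans h))
  · have hcard : Nat.card (symplecticGroup (Fin 1) (ZMod 2)) = 6 := by
      rw [CfsgLib.Linear.Symp.card_symplectic, ZMod.card]; norm_num
    exact cb_of_injective f hf (cb_sp_one_two.mono (by norm_num))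
  · exact cb_of_injective f hf (cb_sp_one_three.mono (by norm_num))
  · have hcard : Nat.card (symplecticGroup (Fin 1) (ZMod 5)) = 120 := by
      rw [CfsgLib.Linear.Symp.card_symplectic, ZMod.card]; norm_num
    have hlt := card_lt_of_perfect f hf le_rfl
      (CfsgLib.Linear.Symp.commutator_eq_top (Or.inr (Or.inr (by rw [ZMod.card]; norm_num))))
    rw [hcard] at hdvd hlt
    refine cb_of_card ?_
    obtain ⟨c, hc⟩ := hdvd
    have : 2 ≤ c := by
      rcases c with _ | _ | c <;> omega
    norm_num
    nlinarith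
  · have hcard : Nat.card (symplecticGroup (Fin 2) (ZMod 2)) = 720 := by
      rw [CfsgLib.Linear.Symp.card_symplectic, ZMod.card]; norm_num [Finset.prod_range_succ]
    norm_num
    haveI : Fact (Nat.Prime 5) := ⟨by norm_num⟩
    haveI : Fact (Nat.Prime 3) := ⟨Nat.prime_three⟩
    by_cases h5 : pCore 5 H = ⊥
    · obtain ⟨hC, hdv⟩ := card_dvd_core f hf fun q hq hq3 => by
        by_contra hne
        have h15 : q ∣ 15 := by simpa using hnc q hq hne
        rcases (hq.dvd_mul.1 (show q ∣ 3 * 5 by norm_num; exact h15)) with h | h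
        · exact hq3 ((Nat.prime_dvd_prime_iff_eq hq Nat.prime_three).1 h)
        · obtain rfl := (Nat.prime_dvd_prime_iff_eq hq (by norm_num : Nat.Prime 5)).1 h
          exact hne h5
      haveI : (pCore 3 H).Normal := CfsgLib.Solvable.pCore_normal 3 H
      obtain ⟨n, hn⟩ := CfsgLib.Solvable.card_pCore (p := 3) (G := H)
      obtain ⟨d, hd⟩ := IsPGroup.index (CfsgLib.Solvable.pCore_isPGroup 3 H) (frattini (pCore 3 H))
      have hdn := (CfsgLib.FGStruct.natCard_frattini hn hd).2
      have hn2 : n ≤ 2 := by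
        by_contra! h
        have h27 : 3 ^ 3 ∣ 720 :=
          ((pow_dvd_pow 3 h).trans (hn ▸ (Subgroup.card_subgroup_dvd_card _).trans hdvd)).trans (hcard ▸ dvd_rfl)
        norm_num at h27
      have hdvd' := Nat.dvd_gcd (hdv n d hn hd) (hcard ▸ hdvd)
      rcases (show n ≤ 1 ∨ n = 2 by omega) with h1 | rfl
      · refine cb_of_card ?_
        interval_cases n <;> interval_cases d <;> norm_num [Finset.prod_range_succ] at hdvd' <;>
          first
            | omega
            | exact (Nat.le_of_dvd (by norm_num) hdvd').trans (by norm_num)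
      · have h144 : Nat.card H ∣ 144 := by
          interval_cases d <;> norm_num [Finset.prod_range_succ] at hdvd' <;>
            exact hdvd'.trans (by norm_num)
        obtain ⟨e⟩ := CfsgLib.Linear.Sp4Two.equiv_S6
        have hne := card_ne_144 (e.toMonoidHom.comp f) (e.injective.comp hf)
        have h9 : 9 ∣ Nat.card H := by
          have := hn ▸ Subgroup.card_subgroup_dvd_card (pCore 3 H)
          norm_num at this
          exact this
        have h72 : Nat.card H ∣ 72 := by
          obtain ⟨k, hk⟩ := h9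
          rw [hk] at h144 hne ⊢
          have h16 : k ∣ 16 := Nat.dvd_of_mul_dvd_mul_left (by norm_num) (show 9 * k ∣ 9 * 16 from h144)
          have := Nat.le_of_dvd (by norm_num) h16
          interval_cases k <;> simp_all (config := { decide := true })
        exact cb_of_nine (pCore 3 H) (by rw [hn]; norm_num) hC h72
    · obtain ⟨hH, hC, g, hg, hpol⟩ := centralizer_core f hf hfix ha (q := 5) (by norm_num)
        (by rw [hcard]; norm_num) h5 fun i hi h => by
          interval_cases i <;> simp_all (config := { decide := true }) [Nat.ModEq]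
      set C := Subgroup.centralizer (pCore 5 H : Set H)
      have hexp : ∀ c ∈ C, c ^ 5 = 1 := by
        intro c hc
        obtain ⟨p, hp⟩ := hpol c hc
        set A := (f g).1 with hA
        have hA5 : A ^ 5 = 1 := by
          rw [hA, ← SubmonoidClass.coe_pow, ← map_pow, ← hg, pow_orderOf_eq_one, map_one, Submonoid.coe_one]
        have hinv : ((f g)⁻¹).1 = A ^ 4 := by
          have h1 : (f g)⁻¹ = (f g) ^ 4 := by
            rw [inv_eq_iff_mul_eq_one, ← pow_succ', ← map_pow, show 4 + 1 = 5 from rfl, ← hg,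
              pow_orderOf_eq_one, map_one]
          rw [h1, SubmonoidClass.coe_pow]
        have hfrob : Polynomial.aeval (A ^ 4) p = Polynomial.aeval A p ^ 4 := by
          rw [← map_pow, show p ^ 4 = (p ^ 2) ^ 2 by rw [← pow_mul], ← ZMod.expand_card, ← ZMod.expand_card,
            Polynomial.expand_aeval, Polynomial.expand_aeval, ← pow_mul]
        have h1 := SymplecticGroup.mem_iff'.1 (f c).2
        rw [hp, transpose_aeval_mul_J, hinv, mul_assoc] at h1
        have h2 : Polynomial.aeval (A ^ 4) p * Polynomial.aeval A p = 1 := by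
          have := congrArg (fun M => (Matrix.J (Fin 2) (ZMod 2))⁻¹ * M) h1
          have hdet : IsUnit (Matrix.J (Fin 2) (ZMod 2)).det := Matrix.isUnit_det_J _ _
          simpa [← mul_assoc, Matrix.nonsing_inv_mul _ hdet] using this
        rw [hfrob, ← pow_succ, ← hp, ← SubmonoidClass.coe_pow, ← map_pow] at h2
        exact hf (Subtype.ext (by rw [map_one, Submonoid.coe_one]; exact h2))
      have hCp : IsPGroup 5 C := fun x => ⟨1, Subtype.ext (by rw [pow_one]; exact hexp x x.2)⟩
      obtain ⟨k, hk⟩ := IsPGroup.iff_card.1 hCp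
      have hk1 : k ≤ 1 := by
        by_contra! h
        have : 25 ≤ 5 ^ k := le_trans (by norm_num) (Nat.pow_le_pow_right (by norm_num) h)
        rw [hk] at hC
        norm_num at hC
        omega
      have : Nat.card C ≤ 5 := hk ▸ (Nat.pow_le_pow_right (by norm_num) hk1)
      exact cb_of_card (by omega)
  · exact cb_of_card ((index_ge_eight f hf rfl rfl).trans (by norm_num))
  · have hcard : Nat.card (symplecticGroup (Fin 3) (ZMod 2)) = 1451520 := by
      rw [CfsgLib.Linear.Symp.card_symplectic, ZMod.card]; norm_num [Finset.prod_range_succ]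
    norm_num
    haveI : Fact (Nat.Prime 7) := ⟨by norm_num⟩
    haveI : Fact (Nat.Prime 3) := ⟨Nat.prime_three⟩
    by_cases h7 : pCore 7 H = ⊥
    · obtain ⟨hC, hdv⟩ := card_dvd_core f hf fun q hq hq3 => by
        by_contra hne
        have h63 : q ∣ 63 := by simpa using hnc q hq hne
        rcases (hq.dvd_mul.1 (show q ∣ 3 ^ 2 * 7 by norm_num; exact h63)) with h | h
        · exact hq3 ((Nat.prime_dvd_prime_iff_eq hq Nat.prime_three).1 (hq.dvd_of_dvd_pow h))
        · obtain rfl := (Nat.prime_dvd_prime_iff_eq hq (by norm_num : Nat.Prime 7)).1 h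
          exact hne h7
      obtain ⟨n, hn⟩ := CfsgLib.Solvable.card_pCore (p := 3) (G := H)
      obtain ⟨d, hd⟩ := IsPGroup.index (CfsgLib.Solvable.pCore_isPGroup 3 H) (frattini (pCore 3 H))
      obtain ⟨hfr, hdn⟩ := CfsgLib.FGStruct.natCard_frattini hn hd
      have hn4 : n ≤ 4 := by
        by_contra! h
        have h243 : 3 ^ 5 ∣ 1451520 :=
          ((pow_dvd_pow 3 h).trans (hn ▸ (Subgroup.card_subgroup_dvd_card _).trans hdvd)).trans (hcard ▸ dvd_rfl)
        norm_num at h243
      have hd3 : d ≤ 3 := by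
        by_contra! h
        obtain ⟨rfl, rfl⟩ : n = 4 ∧ d = 4 := ⟨by omega, by omega⟩
        have hbot : frattini (pCore 3 H) = ⊥ := Subgroup.card_eq_one.1 (by rw [hfr]; rfl)
        have hP := CfsgLib.Solvable.pCore_isPGroup 3 H
        have hcP : ∀ x y : pCore 3 H, x * y = y * x := fun x y => by
          have h0 := CfsgLib.PGroup.commutator_le_frattini hP
            (Subgroup.commutator_mem_commutator (Subgroup.mem_top x) (Subgroup.mem_top y))
          rw [hbot, Subgroup.mem_bot] at h0
          exact commutatorElement_eq_one_iff_mul_comm.1 h0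
        have heP : ∀ x : pCore 3 H, x ^ 3 = 1 := fun x => by
          have h0 := CfsgLib.PGroup.pow_mem_frattini hP x
          rwa [hbot, Subgroup.mem_bot] at h0
        let ρ : pCore 3 H →* Module.End (ZMod 2) (Fin 3 ⊕ Fin 3 → ZMod 2) :=
          { toFun := fun x => Matrix.mulVecLin (f x).1
            map_one' := LinearMap.ext fun v => by simp
            map_mul' := fun x y => LinearMap.ext fun v => by simp [Matrix.mulVec_mulVec] }
        have h81 := sq_card_le_of_exp_three hcP heP ρ fun x y e => Subtype.ext (hf (Subtype.ext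
          (Matrix.ext_of_mulVec_single fun i => LinearMap.congr_fun e _)))
        rw [hn, CfsgLib.SympGeom.finrank_space] at h81
        norm_num at h81
      have hdvd' := Nat.dvd_gcd (hdv n d hn hd) (hcard ▸ hdvd)
      have hH : Nat.card H ∣ 2592 := by
        interval_cases n <;> interval_cases d <;> norm_num [Finset.prod_range_succ] at hdvd' <;>
          first
            | (rw [hdvd']; norm_num)
            | exact hdvd'.trans (by norm_num)
      have hle := Nat.le_of_dvd (by norm_num) hH
      by_cases hc : ∀ x y : H, x * y = y * x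
      · refine cb_of_card ?_
        have h1 : (⊤ : Subgroup H) ≤ pCore 3 H := fun x _ =>
          hC (Subgroup.mem_centralizer_iff.2 fun y _ => hc y x)
        have h2 := Subgroup.card_le_of_le h1
        rw [Subgroup.card_top, hn] at h2
        exact h2.trans ((Nat.pow_le_pow_right (by norm_num) hn4).trans (by norm_num))
      · exact cb_of_five_eighths (by omega) hc (by omega)
    · obtain ⟨hH, hC, -⟩ := centralizer_core f hf hfix ha (q := 7) (by norm_num)
        (by rw [hcard]; norm_num) h7 fun i hi h => by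
          interval_cases i <;> simp_all (config := { decide := true }) [Nat.ModEq]
      norm_num at hC
      exact cb_of_card (by omega)
  · refine cb_of_card ?_
    rcases card_le_triple f hf hirr rfl with h | h <;> norm_num at h ⊢ <;> omega
  · refine cb_of_card ((card_le_cube f hf hirr).trans ?_)
    norm_num

end

end CfsgLib.SolvLinClass
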