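import Cfsg.Agent.Lib.SolvLinClass.Exceptional
import Cfsg.Agent.Lib.SolvBlock.Pairing

/-!
# All subgroups of a solvable group preserving a nondegenerate pairing on a semisimple module
-/

set_option autoImplicit false
set_option linter.style.haveILetI false
set_option maxHeartbeats 1000000

namespace CfsgLib.SolvLinClass

open Matrix Cfsg CfsgLib.SolvBlock

universe u

variable {U A : Type u} [CommGroup U] [CommGroup A] [Finite A] [IsCyclic A]

/-- The irreducible case. -/
theorem layer_leaf {r : ℕ} [hr : Fact r.Prime] [Finite U] [Nontrivial U] (hU : ∀ u : U, u ^ r = 1)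
    (c : U →* U →* A) (halt : ∀ u, c u u = 1) (hnd : ∀ u, (∀ v, c u v = 1) → u = 1)
    (Γ : Subgroup (MulAut U)) (hirr : ∀ L : Subgroup U, (∀ γ ∈ Γ, ∀ u ∈ L, γ u ∈ L) → L = ⊥ ∨ L = ⊤)
    (hΓc : ∀ γ ∈ Γ, ∀ u v, c (γ u) (γ v) = c u v) [Group.IsSolvable Γ] :
    ∃ e : ℕ, 0 < e ∧ Nat.card U = e * e ∧ CB Γ (3 ^ (e - 1)) := by
  classical
  set T : Subgroup A := (powMonoidHom r).ker with hT
  have hTmem : ∀ a, a ∈ T ↔ a ^ r = 1 := fun a => Iff.rfl
  have hcT : ∀ u v, c u v ∈ T := fun u v => by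
    rw [hTmem, ← map_pow, hU, map_one]
  obtain ⟨u₀, hu₀⟩ := exists_ne (1 : U)
  obtain ⟨v₀, hv₀⟩ : ∃ v, c u₀ v ≠ 1 := by
    by_contra! h; exact hu₀ (hnd _ h)
  have hTcard : Nat.card T = r := by
    refine le_antisymm ?_ ?_
    · cases nonempty_fintype A
      rw [Nat.card_eq_fintype_card]
      refine le_trans (le_of_eq ?_) (IsCyclic.card_pow_eq_one_le (α := A) hr.out.pos)
      rw [← Fintype.card_coe]
      exact Fintype.card_congr (Equiv.subtypeEquivRight fun a => by simp [hTmem])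
    · have h1 : orderOf (⟨c u₀ v₀, hcT _ _⟩ : T) = r := orderOf_eq_prime
        (Subtype.ext ((hTmem _).1 (hcT _ _))) (fun h => hv₀ (congrArg Subtype.val h))
      exact h1 ▸ orderOf_le_card
  haveI : IsCyclic T := Subgroup.isCyclic _
  let eT : T ≃* Multiplicative (ZMod r) := mulEquivOfCyclicCardEq (by simp [hTcard])
  haveI : Module (ZMod r) (Additive U) := AddCommGroup.zmodModule (n := r) (fun v => by
    show Additive.ofMul ((Additive.toMul v) ^ r) = 0
    rw [hU]; rfl)
  haveI : Finite (Additive U) := inferInstanceAs (Finite U)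
  let b : Additive U → Additive U → ZMod r := fun u v =>
    Multiplicative.toAdd (eT ⟨c (Additive.toMul u) (Additive.toMul v), hcT _ _⟩)
  have hb1 : ∀ u u' v, b (u + u') v = b u v + b u' v := fun u u' v => by
    simp only [b, ← toAdd_mul, ← map_mul]
    congr 2
    exact Subtype.ext (show c (Additive.toMul u * Additive.toMul u') (Additive.toMul v) = _ by
      rw [map_mul]; rfl)
  have hb2 : ∀ u v v', b u (v + v') = b u v + b u v' := fun u v v' => by
    simp only [b, ← toAdd_mul, ← map_mul]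
    congr 2
    exact Subtype.ext (show c (Additive.toMul u) (Additive.toMul v * Additive.toMul v') = _ by
      rw [map_mul]; rfl)
  have hb0 : ∀ u v : Additive U, b u v = 0 ↔ c (Additive.toMul u) (Additive.toMul v) = 1 := fun u v => by
    simp only [b, toAdd_eq_zero, EmbeddingLike.map_eq_one_iff]
    exact ⟨fun h => congrArg Subtype.val h, fun h => Subtype.ext h⟩
  haveI : Nontrivial (Additive U) := inferInstanceAs (Nontrivial U)
  obtain ⟨k, Φ, hk1, hcardV, hφB⟩ := exists_symp_coordinates b hb1 hb2 (fun u => (hb0 u u).2 (halt _))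
    fun u h => hnd _ fun v => (hb0 u (Additive.ofMul v)).1 (h _)
  have hcardU : Nat.card U = r ^ (2 * k) := by
    rw [← hcardV]; exact Nat.card_congr Additive.ofMul
  let lin : MulAut U → (Additive U →ₗ[ZMod r] Additive U) := fun h =>
    AddMonoidHom.toZModLinearMap r (MonoidHom.toAdditive h.toMonoidHom)
  have hlin : ∀ h u, lin h u = Additive.ofMul (h (Additive.toMul u)) := fun _ _ => rfl
  let g : Γ → ((Fin k ⊕ Fin k → ZMod r) ≃ₗ[ZMod r] (Fin k ⊕ Fin k → ZMod r)) := fun h =>
    { ((Φ.symm.toLinearMap.comp ((lin h).comp Φ.toLinearMap))) with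
      invFun := fun w => Φ.symm (lin (h : MulAut U)⁻¹ (Φ w))
      left_inv := fun w => by simp [hlin]
      right_inv := fun w => by simp [hlin] }
  have hg : ∀ h w, Φ (g h w) = lin h (Φ w) := fun h w => Φ.apply_symm_apply _
  have hgpres : ∀ h v w, Cfsg.sympForm k (ZMod r) (g h v) (g h w) = Cfsg.sympForm k (ZMod r) v w := by
    intro h v w
    rw [← hφB, ← hφB, hg, hg]
    show Multiplicative.toAdd (eT _) = Multiplicative.toAdd (eT _)
    congr 2
    exact Subtype.ext (hΓc h h.2 _ _)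
  choose M hM using fun h => CfsgLib.SympGeom.exists_of_linearEquiv (g h) (hgpres h)
  have hΦM : ∀ h w, Φ ((M h).1 *ᵥ w) = lin h (Φ w) := fun h w => by rw [hM, hg]
  let F : Γ →* symplecticGroup (Fin k) (ZMod r) :=
    { toFun := M
      map_one' := Subtype.ext (Matrix.ext_of_mulVec_single fun i => Φ.injective (by
        rw [hΦM]; exact (congrArg Φ (Matrix.one_mulVec _)).symm))
      map_mul' := fun x y => Subtype.ext (Matrix.ext_of_mulVec_single fun i => Φ.injective (by
        rw [hΦM]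
        show _ = Φ (((M x).1 * (M y).1) *ᵥ _)
        rw [← Matrix.mulVec_mulVec, hΦM, hΦM]; rfl)) }
  have hF : ∀ h w, Φ ((F h).1 *ᵥ w) = lin h (Φ w) := hΦM
  have hFinj : Function.Injective F := by
    intro x y hxy
    refine Subtype.ext (MulEquiv.ext fun u => ?_)
    have h := hF x (Φ.symm (Additive.ofMul u))
    rw [hxy, hF, Φ.apply_symm_apply] at h
    exact (congrArg Additive.toMul h).symm
  haveI : Finite (MulAut U) := Finite.of_injective (fun φ : MulAut U => (φ : U → U)) DFunLike.coe_injective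
  refine ⟨r ^ k, Nat.pow_pos hr.out.pos, by rw [hcardU, two_mul, pow_add],
    cb_sp F hFinj (fun W hW => ?_) hk1⟩
  let L : Subgroup U :=
    { carrier := {x | Φ.symm (Additive.ofMul x) ∈ W}
      one_mem' := by simp
      mul_mem' := fun {x y} hx hy => by
        show Φ.symm (Additive.ofMul (x * y)) ∈ W
        rw [ofMul_mul, map_add]; exact add_mem hx hy
      inv_mem' := fun {x} hx => by
        show Φ.symm (Additive.ofMul x⁻¹) ∈ W
        rw [ofMul_inv, map_neg]; exact neg_mem hx }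
  have hL : ∀ γ ∈ Γ, ∀ x ∈ L, γ x ∈ L := by
    intro γ hγ x hx
    have h := hW ⟨γ, hγ⟩ _ hx
    have he : (F ⟨γ, hγ⟩).1 *ᵥ Φ.symm (Additive.ofMul x) = Φ.symm (Additive.ofMul (γ x)) :=
      Φ.injective (by rw [hF, Φ.apply_symm_apply, Φ.apply_symm_apply]; rfl)
    rw [he] at h
    exact h
  rcases hirr L hL with h | h
  · refine Or.inl ((Submodule.eq_bot_iff _).2 fun w hw => ?_)
    have hm : Additive.toMul (Φ w) ∈ L := show Φ.symm _ ∈ W by
      rw [ofMul_toMul, Φ.symm_apply_apply]; exact hw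
    rw [h, Subgroup.mem_bot] at hm
    exact Φ.injective (by rw [map_zero]; exact hm)
  · refine Or.inr (Submodule.eq_top_iff'.2 fun w => ?_)
    have hm : Φ.symm (Additive.ofMul (Additive.toMul (Φ w))) ∈ W := show Additive.toMul (Φ w) ∈ L from
      h ▸ Subgroup.mem_top _
    rwa [ofMul_toMul, Φ.symm_apply_apply] at hm

/-- The bound for a solvable group preserving a pairing. -/
theorem layer_bound (n : ℕ) : ∀ {U : Type u} [CommGroup U] [Finite U], Nat.card U = n →
    ∀ (c : U →* U →* A), (∀ u, c u u = 1) →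
    ∀ (Γ : Subgroup (MulAut U)), (∀ γ ∈ Γ, ∀ u v, c (γ u) (γ v) = c u v) →
      (∀ L : Subgroup U, (∀ γ ∈ Γ, ∀ u ∈ L, γ u ∈ L) → ∀ u ∈ L, (∀ v ∈ L, c u v = 1) → u = 1) →
      Group.IsSolvable Γ →
    ∃ e : ℕ, 0 < e ∧ Nat.card U = e * e ∧ CB Γ (3 ^ (e - 1)) := by
  induction n using Nat.strong_induction_on with
  | _ n ih =>
  intro U _ _ hn c halt Γ hΓc hrad hΓs
  classical
  haveI : Finite (MulAut U) := Finite.of_injective (fun φ : MulAut U => (φ : U → U)) DFunLike.coe_injective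
  rcases subsingleton_or_nontrivial U with hU | hU
  · haveI : Subsingleton (MulAut U) := ⟨fun _ _ => MulEquiv.ext fun _ => Subsingleton.elim _ _⟩
    exact ⟨1, one_pos, Nat.card_of_subsingleton 1, cb_of_subsingleton (by simp)⟩
  by_cases hex : ∃ L : Subgroup U, (∀ γ ∈ Γ, ∀ u ∈ L, γ u ∈ L) ∧ L ≠ ⊥ ∧ L ≠ ⊤
  swap
  · push Not at hex
    obtain ⟨r, hr, hdvd⟩ := Nat.exists_prime_and_dvd (n := Nat.card U) (Finite.one_lt_card.ne')
    haveI := Fact.mk hr
    obtain ⟨x, hx⟩ := exists_prime_orderOf_dvd_card' r hdvd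
    set L : Subgroup U := (powMonoidHom r).ker with hL
    have hLmem : ∀ u, u ∈ L ↔ u ^ r = 1 := fun u => Iff.rfl
    have hLinv : ∀ γ ∈ Γ, ∀ u ∈ L, γ u ∈ L := fun γ _ u hu => by
      rw [hLmem, ← map_pow, (hLmem u).1 hu, map_one]
    have hLne : L ≠ ⊥ := fun h => by
      have : x ∈ L := (hLmem x).2 (hx ▸ pow_orderOf_eq_one x)
      rw [h, Subgroup.mem_bot] at this
      rw [this, orderOf_one] at hx
      exact hr.one_lt.ne hx
    have hLtop := hex L hLinv hLne
    haveI := hΓs
    exact layer_leaf (fun u => (hLmem u).1 (hLtop ▸ Subgroup.mem_top u)) c halt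
      (fun u hu => hrad ⊤ (fun _ _ _ _ => Subgroup.mem_top _) u (Subgroup.mem_top u) fun v _ => hu v)
      Γ (fun L' h' => or_iff_not_imp_left.2 (hex L' h')) hΓc
  obtain ⟨L, hLinv, hL1, hL2⟩ := hex
  set L' := orth c L with hL'
  have hL'inv : ∀ γ ∈ Γ, ∀ u ∈ L', γ u ∈ L' := by
    intro γ hγ u hu v hv
    have h := (hΓc γ hγ u _).trans (hu _ (hLinv _ (Γ.inv_mem hγ) v hv))
    rwa [show γ (γ⁻¹ v) = v from γ.apply_symm_apply v] at h
  have hdis : L ⊓ L' = ⊥ := (Subgroup.eq_bot_iff_forall _).2 fun u hu =>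
    hrad L hLinv u (Subgroup.mem_inf.1 hu).1 (Subgroup.mem_inf.1 hu).2
  have hcardge : Nat.card U ≤ Nat.card L * Nat.card L' := by
    let Φ : U →* (L →* A) :=
      { toFun := fun u => (c u).comp L.subtype
        map_one' := MonoidHom.ext fun v => by simp
        map_mul' := fun u v => MonoidHom.ext fun w => by simp }
    have hker : Φ.ker = L' := by
      ext u
      exact ⟨fun h v hv => DFunLike.congr_fun h ⟨v, hv⟩, fun h => MonoidHom.ext fun v => h v v.2⟩
    obtain ⟨hfin, hle⟩ := card_hom_cyclic_le (A := A) L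
    rw [← Subgroup.card_mul_index Φ.ker, Subgroup.index_ker, hker, mul_comm (Nat.card L)]
    exact Nat.mul_le_mul_left _ ((Subgroup.card_le_card_group _).trans hle)
  let m : L × L' →* U := MonoidHom.coprod L.subtype L'.subtype
  have hminj : Function.Injective m := by
    rw [injective_iff_map_eq_one]
    rintro ⟨x, y⟩ hxy
    have hxy' : (x : U) * y = 1 := hxy
    have hx : (x : U) ∈ L ⊓ L' := Subgroup.mem_inf.2 ⟨x.2, by
      rw [eq_inv_of_mul_eq_one_left hxy']; exact L'.inv_mem y.2⟩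
    rw [hdis, Subgroup.mem_bot] at hx
    rw [hx, one_mul] at hxy'
    exact Prod.ext (Subtype.ext hx) (Subtype.ext hxy')
  have hcard : Nat.card U = Nat.card L * Nat.card L' :=
    le_antisymm hcardge (by rw [← Nat.card_prod]; exact Nat.card_le_card_of_injective m hminj)
  have hmsurj : Function.Surjective m := ((Nat.bijective_iff_injective_and_card m).2
    ⟨hminj, by rw [Nat.card_prod, hcard]⟩).2
  have hL'ne : L' ≠ ⊤ := fun h => hL1 (by rw [h, inf_top_eq] at hdis; exact hdis)
  -- the induction step on an invariant summand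
  have sub : ∀ S : Subgroup U, S ≠ ⊤ → ∀ hS : (∀ γ ∈ Γ, ∀ u ∈ S, γ u ∈ S),
      ∃ e : ℕ, 0 < e ∧ Nat.card S = e * e ∧ CB (restrictAut Γ S hS).range (3 ^ (e - 1)) := by
    intro S hStop hS
    let cS : S →* S →* A :=
      { toFun := fun u => (c u).comp S.subtype
        map_one' := MonoidHom.ext fun v => by simp
        map_mul' := fun u v => MonoidHom.ext fun w => by simp }
    set ρ := restrictAut Γ S hS
    have hlt : Nat.card S < n := by
      rw [← hn]
      exact lt_of_le_of_ne (Subgroup.card_le_card_group S) fun h => hStop (Subgroup.eq_top_of_card_eq S h)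
    haveI := hΓs
    refine ih _ hlt rfl cS (fun u => halt (u : U)) ρ.range ?_ ?_
      (Group.isSolvable_of_surjective ρ.rangeRestrict_surjective)
    · rintro _ ⟨γ, rfl⟩ u v
      exact hΓc γ γ.2 _ _
    · intro M hM u hu hall
      have h := hrad (M.map S.subtype) (fun γ hγ x hx => by
        obtain ⟨y, hy, rfl⟩ := hx
        exact ⟨ρ ⟨γ, hγ⟩ y, hM _ ⟨_, rfl⟩ y hy, rfl⟩) u ⟨u, hu, rfl⟩ (by
        rintro _ ⟨y, hy, rfl⟩
        exact hall y hy)
      exact Subtype.ext h
  obtain ⟨a, ha0, hLa, hka⟩ := sub L hL2 hLinv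
  obtain ⟨b, hb0, hLb, hkb⟩ := sub L' hL'ne hL'inv
  refine ⟨a * b, Nat.mul_pos ha0 hb0, by rw [hcard, hLa, hLb]; ring, ?_⟩
  set ρ := restrictAut Γ L hLinv with hρ
  set ρ' := restrictAut Γ L' hL'inv with hρ'
  have hinj' : Function.Injective (ρ'.rangeRestrict.comp ρ.rangeRestrict.ker.subtype) := by
    rw [injective_iff_map_eq_one]
    intro h h1
    refine Subtype.ext (Subtype.ext (MulEquiv.ext fun u => ?_))
    obtain ⟨⟨x, y⟩, rfl⟩ := hmsurj u
    have e1 : ((h : Γ) : MulAut U) (x : U) = x :=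
      congrArg (fun φ : ρ.range => (((φ : MulAut L) x : L) : U)) (MonoidHom.mem_ker.1 h.2)
    have e2 : ((h : Γ) : MulAut U) (y : U) = y :=
      congrArg (fun φ : ρ'.range => (((φ : MulAut L') y : L') : U)) h1
    show ((h : Γ) : MulAut U) ((x : U) * y) = (x : U) * y
    rw [map_mul, e1, e2]
  refine (cb_of_ker ρ.rangeRestrict (cb_of_injective _ hinj' hkb) hka).mono ?_
  rw [← pow_add]
  refine Nat.pow_le_pow_right (by norm_num) ?_
  obtain ⟨a, rfl⟩ : ∃ a', a = a' + 1 := ⟨a - 1, by omega⟩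
  obtain ⟨b, rfl⟩ : ∃ b', b = b' + 1 := ⟨b - 1, by omega⟩
  simp only [Nat.add_sub_cancel]
  ring_nf
  omega

end CfsgLib.SolvLinClass
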