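import Cfsg.Agent.Lib.SolvLinClass.Layer
import Cfsg.Agent.Lib.SolvClass.PermBound
import Cfsg.Agent.Lib.KGV.CommutatorPairing
import Cfsg.Agent.Lib.FpfPQ.Weights
import Cfsg.Agent.Lib.Char.Kernel
import Cfsg.Agent.Lib.Transfer.PGroup
import Cfsg.Agent.Lib.Solvable.Core

/-!
# Class numbers of solvable complex linear groups modulo the Fitting subgroup
-/

set_option autoImplicit false
set_option linter.style.haveILetI false
set_option maxHeartbeats 1000000

namespace CfsgLib.SolvLinClass

open Cfsg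
open scoped commutatorElement

attribute [local instance] CfsgLib.Solvable.fittingSubgroup_normal

/-! ### Groups -/

theorem isNilpotent_of_inj {A B : Type*} [Group A] [Group B] [Group.IsNilpotent B] (f : A →* B)
    (hf : Function.Injective f) : Group.IsNilpotent A :=
  Group.nilpotent_of_mulEquiv (MonoidHom.ofInjective hf).symm

/-- The quotient by the Fitting subgroup embeds into those of a separating family of images. -/
theorem exists_embedding {G : Type} [Group G] [Finite G] {ι : Type} [Finite ι] {Q : ι → Type}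
    [∀ i, Group (Q i)] (f : ∀ i, G →* Q i) (hinj : ∀ g, (∀ i, f i g = 1) → g = 1) :
    ∃ Φ : G ⧸ fittingSubgroup G →* ∀ i, (f i).range ⧸ fittingSubgroup (f i).range, Function.Injective Φ := by
  haveI : ∀ i, Finite (f i).range := fun i => Finite.of_surjective _ (f i).rangeRestrict_surjective
  let Ψ : G →* ∀ i, (f i).range ⧸ fittingSubgroup (f i).range :=
    MonoidHom.pi fun i => (QuotientGroup.mk' _).comp (f i).rangeRestrict
  have hle : fittingSubgroup G ≤ Ψ.ker := fun g hg => funext fun i =>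
    (QuotientGroup.eq_one_iff _).2 (CfsgLib.Solvable.map_fittingSubgroup_le_of_surjective
      (f i).rangeRestrict_surjective ⟨g, hg, rfl⟩)
  have hge : Ψ.ker ≤ fittingSubgroup G := by
    refine CfsgLib.Solvable.le_fittingSubgroup inferInstance ?_
    haveI : ∀ i, Group.IsNilpotent (fittingSubgroup (f i).range) := fun i =>
      CfsgLib.Solvable.fittingSubgroup_isNilpotent _
    refine isNilpotent_of_inj (MonoidHom.pi fun i => (((f i).rangeRestrict).comp Ψ.ker.subtype).codRestrict
      (fittingSubgroup (f i).range) fun x => (QuotientGroup.eq_one_iff _).1 (congrFun x.2 i)) ?_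
    rw [injective_iff_map_eq_one]
    intro x hx
    exact Subtype.ext (hinj x fun i => congrArg (fun y : fittingSubgroup (f i).range => ((y : (f i).range) : Q i))
      (congrFun hx i))
  refine ⟨QuotientGroup.lift _ Ψ hle, ?_⟩
  rw [injective_iff_map_eq_one]
  intro q hq
  obtain ⟨g, rfl⟩ := QuotientGroup.mk_surjective q
  exact (QuotientGroup.eq_one_iff g).2 (hge hq)

/-- If abelian normal subgroups are central, the Fitting subgroup has class at most two. -/
theorem commutator_fitting_mem_center {G : Type} [Group G] [Finite G]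
    (hab : ∀ A : Subgroup G, A.Normal → (∀ a ∈ A, ∀ b ∈ A, a * b = b * a) → A ≤ Subgroup.center G) :
    ∀ x ∈ fittingSubgroup G, ∀ y ∈ fittingSubgroup G, ⁅x, y⁆ ∈ Subgroup.center G := by
  classical
  set P := fittingSubgroup G
  haveI : Group.IsNilpotent P := CfsgLib.Solvable.fittingSubgroup_isNilpotent G
  have hZP : ∀ z ∈ P, (∀ y ∈ P, z * y = y * z) → z ∈ Subgroup.center G := by
    intro z hz hcomm
    let A : Subgroup G := P ⊓ Subgroup.centralizer (P : Set G)
    refine hab A inferInstance (fun a ha b hb => ?_) ⟨hz, ?_⟩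
    · exact (Subgroup.mem_centralizer_iff.1 ha.2 b hb.1).symm
    · exact Subgroup.mem_centralizer_iff.2 fun y hy => (hcomm y hy).symm
  let Z₀ : Subgroup P := Subgroup.center P
  have hZ₀ : ∀ z : P, z ∈ Z₀ → (z : G) ∈ Subgroup.center G := fun z hz =>
    hZP z z.2 fun y hy => (congrArg Subtype.val (Subgroup.mem_center_iff.1 hz ⟨y, hy⟩)).symm
  suffices hD : commutator P ≤ Z₀ by
    intro x hx y hy
    exact hZ₀ ⁅(⟨x, hx⟩ : P), ⟨y, hy⟩⁆ (hD (Subgroup.commutator_mem_commutator
      (Subgroup.mem_top _) (Subgroup.mem_top _)))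
  let A₀ : Subgroup P := Subgroup.upperCentralSeriesStep Z₀ ⊓ commutator P
  have hA₀ : ∀ a ∈ A₀, ∀ c ∈ A₀, a * c = c * a := by
    rintro a ⟨ha, -⟩ c ⟨-, hc⟩
    have hz : ∀ t, ⁅a, t⁆ ∈ Subgroup.center P := (Subgroup.mem_upperCentralSeriesStep Z₀ a).1 ha
    let g : P →* Subgroup.center P :=
      { toFun := fun t => ⟨⁅a, t⁆, hz t⟩
        map_one' := Subtype.ext (commutatorElement_one_right a)
        map_mul' := fun s t => Subtype.ext (by
          change ⁅a, s * t⁆ = ⁅a, s⁆ * ⁅a, t⁆
          have e : ⁅a, s * t⁆ = ⁅a, s⁆ * (s * ⁅a, t⁆ * s⁻¹) := by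
            simp only [commutatorElement_def]
            group
          rw [e, Subgroup.mem_center_iff.1 (hz t) s, mul_inv_cancel_right]) }
    have hle : commutator P ≤ g.ker := by
      rw [commutator_def, Subgroup.commutator_le]
      intro u _ v _
      rw [MonoidHom.mem_ker, map_commutatorElement, commutatorElement_eq_one_iff_mul_comm]
      exact Subtype.ext (Subgroup.mem_center_iff.1 (g v).2 (g u))
    exact commutatorElement_eq_one_iff_mul_comm.1
      (congrArg Subtype.val (MonoidHom.mem_ker.1 (hle hc)))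
  have : A₀.Characteristic := inferInstance
  have hA₀n : (A₀.map P.subtype).Normal := ConjAct.normal_of_characteristic_of_normal
  have hA₀Z : A₀ ≤ Z₀ := fun a ha => Subgroup.mem_center_iff.2 fun y => Subtype.ext
    (Subgroup.mem_center_iff.1 (hab (A₀.map P.subtype) hA₀n (by
      rintro _ ⟨a, ha, rfl⟩ _ ⟨c, hc, rfl⟩
      exact congrArg Subtype.val (hA₀ a ha c hc)) ⟨a, ha, rfl⟩) y)
  have hNil : Group.IsNilpotent (P ⧸ Z₀) := Group.nilpotent_of_surjective _ (QuotientGroup.mk'_surjective Z₀)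
  have : ((commutator P).map (QuotientGroup.mk' Z₀)).Normal :=
    (inferInstance : (commutator P).Normal).map _ (QuotientGroup.mk'_surjective _)
  by_contra hne
  refine CfsgLib.Transfer.inf_center_ne_bot (N := (commutator P).map (QuotientGroup.mk' Z₀))
    (fun h => hne fun x hx => (QuotientGroup.eq_one_iff x).1
      ((Subgroup.eq_bot_iff_forall _).1 h _ ⟨x, hx, rfl⟩)) (eq_bot_iff.2 ?_)
  rintro _ ⟨⟨a, ha, rfl⟩, ha2⟩
  refine Subgroup.mem_bot.2 ((QuotientGroup.eq_one_iff a).2 (hA₀Z ⟨?_, ha⟩))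
  rw [Subgroup.upperCentralSeriesStep_eq_comap_center]
  exact ha2

/-! ### The three cases -/

/-- The induction hypothesis on the degree. -/
def Below (r : ℕ) : Prop :=
  ∀ d < r, ∀ (G : Type) [Group G] [Finite G], Group.IsSolvable G →
    ∀ (V : Type) [AddCommGroup V] [Module ℂ V] [FiniteDimensional ℂ V], Module.finrank ℂ V ≤ d →
    ∀ ρ : G →* Module.End ℂ V, Function.Injective ρ → CB (G ⧸ fittingSubgroup G) (3 ^ (d - 1))

variable {G : Type} [Group G] [Finite G] {V : Type} [AddCommGroup V] [Module ℂ V]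

/-- The action on an invariant subspace. -/
def resHom (ρ : G →* Module.End ℂ V) (W : Submodule ℂ V) (hW : ∀ g, ∀ v ∈ W, ρ g v ∈ W) :
    G →* (Module.End ℂ W)ˣ :=
  MonoidHom.toHomUnits
    { toFun := fun g => (ρ g).restrict (hW g)
      map_one' := LinearMap.ext fun v => Subtype.ext (by simp)
      map_mul' := fun g h => LinearMap.ext fun v => Subtype.ext (by simp) }

theorem resHom_apply (ρ : G →* Module.End ℂ V) (W : Submodule ℂ V) (hW : ∀ g, ∀ v ∈ W, ρ g v ∈ W) (g : G)
    (w : W) : ((((resHom ρ W hW g : (Module.End ℂ W)ˣ) : Module.End ℂ W) w : W) : V) = ρ g w := rfl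

variable [FiniteDimensional ℂ V]

theorem cb_resHom {r : ℕ} (hIH : Below r) [hG : Group.IsSolvable G] (ρ : G →* Module.End ℂ V)
    (W : Submodule ℂ V) (hW : ∀ g, ∀ v ∈ W, ρ g v ∈ W) {d : ℕ} (hd : Module.finrank ℂ W ≤ d) (hdr : d < r) :
    CB ((resHom ρ W hW).range ⧸ fittingSubgroup (resHom ρ W hW).range) (3 ^ (d - 1)) :=
  haveI : Finite (resHom ρ W hW).range := Finite.of_surjective _ (resHom ρ W hW).rangeRestrict_surjective
  hIH d hdr _ (Group.isSolvable_of_surjective (resHom ρ W hW).rangeRestrict_surjective) W hd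
    ((Units.coeHom _).comp (resHom ρ W hW).range.subtype) fun _ _ h => Subtype.ext (Units.ext h)

/-- The reducible case. -/
theorem cb_reducible {r : ℕ} (hIH : Below r) [Group.IsSolvable G] (ρ : G →* Module.End ℂ V)
    (hρ : Function.Injective ρ) (hr : Module.finrank ℂ V ≤ r)
    (W : Submodule ℂ V) (hW : ∀ g, ∀ v ∈ W, ρ g v ∈ W) (h0 : W ≠ ⊥) (h1 : W ≠ ⊤) :
    CB (G ⧸ fittingSubgroup G) (3 ^ (r - 1)) := by
  obtain ⟨W', hW', hc⟩ := CfsgLib.CharKernel.exists_invariant_compl (ρ := ρ) W hW
  have hadd := Submodule.finrank_add_eq_of_isCompl hc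
  have ha : 0 < Module.finrank ℂ W := Nat.pos_of_ne_zero fun h => h0 (Submodule.finrank_eq_zero.1 h)
  have hb : 0 < Module.finrank ℂ W' := Nat.pos_of_ne_zero fun h => h1 (by
    have := hc.sup_eq_top
    rwa [Submodule.finrank_eq_zero.1 h, sup_bot_eq] at this)
  set fW := resHom ρ W hW
  set fW' := resHom ρ W' hW'
  let Q : Bool → Type := fun b => match b with
    | true => (Module.End ℂ W)ˣ
    | false => (Module.End ℂ W')ˣ
  letI : ∀ b, Group (Q b) := fun b => match b with
    | true => inferInstanceAs (Group (Module.End ℂ W)ˣ)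
    | false => inferInstanceAs (Group (Module.End ℂ W')ˣ)
  let f : ∀ b, G →* Q b := fun b => match b with
    | true => fW
    | false => fW'
  obtain ⟨Φ, hΦ⟩ := exists_embedding f fun g hg => hρ (LinearMap.ext fun v => by
    obtain ⟨w, hw, w', hw', rfl⟩ := Submodule.mem_sup.1 (hc.sup_eq_top.symm ▸ Submodule.mem_top : v ∈ W ⊔ W')
    have e₁ : ρ g w = w := congrArg (fun u : (Module.End ℂ W)ˣ => (((u : Module.End ℂ W) ⟨w, hw⟩ : W) : V)) (hg true)
    have e₂ : ρ g w' = w' :=
      congrArg (fun u : (Module.End ℂ W')ˣ => (((u : Module.End ℂ W') ⟨w', hw'⟩ : W') : V)) (hg false)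
    rw [map_one, map_add, e₁, e₂]; rfl)
  have hA := cb_resHom hIH ρ W hW le_rfl (by omega)
  have hB := cb_resHom hIH ρ W' hW' le_rfl (by omega)
  haveI : Finite fW.range := Finite.of_surjective _ fW.rangeRestrict_surjective
  haveI : Finite fW'.range := Finite.of_surjective _ fW'.rangeRestrict_surjective
  let pr : (∀ b, (f b).range ⧸ fittingSubgroup (f b).range) →*
      (fW.range ⧸ fittingSubgroup fW.range) × (fW'.range ⧸ fittingSubgroup fW'.range) :=
    (Pi.evalMonoidHom _ true).prod (Pi.evalMonoidHom _ false)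
  have hpr : Function.Injective pr := fun x y h => funext fun b => by
    cases b
    · exact congrArg Prod.snd h
    · exact congrArg Prod.fst h
  refine ((cb_of_injective (pr.comp Φ) (hpr.comp hΦ) (cb_prod hA hB))).mono ?_
  rw [← pow_add]
  exact Nat.pow_le_pow_right (by norm_num) (by omega)

/-- The imprimitive case. -/
theorem cb_imprimitive {r : ℕ} (hIH : Below r) [Group.IsSolvable G] (ρ : G →* Module.End ℂ V)
    (hρ : Function.Injective ρ) (hr : Module.finrank ℂ V ≤ r) [Nontrivial V]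
    (hirr : ∀ W : Submodule ℂ V, (∀ g, ∀ v ∈ W, ρ g v ∈ W) → W = ⊥ ∨ W = ⊤)
    (A : Subgroup G) (hAn : A.Normal) (hA : ∀ a ∈ A, ∀ b ∈ A, a * b = b * a) (hAc : ¬ A ≤ Subgroup.center G) :
    CB (G ⧸ fittingSubgroup G) (3 ^ (r - 1)) := by
  classical
  haveI := hAn
  letI : CommGroup A := { A.toGroup with mul_comm := fun a b => Subtype.ext (hA a a.2 b b.2) }
  cases nonempty_fintype A
  have happ : ∀ (x y : G) (v : V), ρ x (ρ y v) = ρ (x * y) v := fun x y v => by rw [map_mul]; rfl
  obtain ⟨v₀, -, hv₀, hev⟩ := CfsgLib.FpfPQ.exists_common_eigen (Set.range fun a : A => ρ a)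
    (by rintro _ ⟨a, rfl⟩ _ ⟨b, rfl⟩; show ρ a * ρ b = ρ b * ρ a; rw [← map_mul, ← map_mul, hA a a.2 b b.2])
    ⊤ top_ne_bot (fun _ _ _ _ => Submodule.mem_top)
  choose μ hμ using fun a : A => hev (ρ a) ⟨a, rfl⟩
  let μ' : A →* ℂ :=
    { toFun := μ
      map_one' := smul_left_injective ℂ hv₀ (show μ 1 • v₀ = (1 : ℂ) • v₀ by
        rw [← hμ, Subgroup.coe_one, map_one, one_smul]; rfl)
      map_mul' := fun a b => smul_left_injective ℂ hv₀ (show μ (a * b) • v₀ = (μ a * μ b) • v₀ by
        rw [← hμ, Subgroup.coe_mul, ← happ, hμ, map_smul, hμ, smul_smul, mul_comm]) }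
  let χ₀ : A →* ℂˣ := μ'.toHomUnits
  let Wt : (A →* ℂˣ) → Submodule ℂ V := fun χ =>
    { carrier := {v | ∀ a : A, ρ a v = (χ a : ℂ) • v}
      zero_mem' := fun a => by simp
      add_mem' := fun {x y} hx hy a => by rw [map_add, hx a, hy a, smul_add]
      smul_mem' := fun s x hx a => by rw [map_smul, hx a, smul_comm] }
  have hv₀W : v₀ ∈ Wt χ₀ := fun a => hμ a
  haveI : Finite (A →* ℂˣ) := Nat.finite_of_card_ne_zero (by
    rw [CommGroup.card_monoidHom_of_hasEnoughRootsOfUnity]; exact Nat.card_pos.ne')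
  letI : MulAction G (A →* ℂˣ) :=
    { smul := fun g χ => χ.comp (MulAut.conjNormal (H := A) g⁻¹).toMonoidHom
      one_smul := fun χ => MonoidHom.ext fun a => congrArg χ (Subtype.ext (by simp))
      mul_smul := fun g h χ => MonoidHom.ext fun a => congrArg χ (Subtype.ext (by simp [mul_assoc])) }
  have hsmul : ∀ (g : G) (χ : A →* ℂˣ), ∀ v ∈ Wt χ, ρ g v ∈ Wt (g • χ) := by
    intro g χ v hv a
    have h := hv (MulAut.conjNormal (H := A) g⁻¹ a)
    show ρ a (ρ g v) = (χ (MulAut.conjNormal (H := A) g⁻¹ a) : ℂ) • ρ g v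
    rw [← map_smul, ← h, happ, happ]
    congr 2
    simp [mul_assoc]
  let O := MulAction.orbit G χ₀
  cases nonempty_fintype O
  let o₀ : O := ⟨χ₀, MulAction.mem_orbit_self χ₀⟩
  let Wo : O → Submodule ℂ V := fun i => Wt i.1
  let e : O → Module.End ℂ V := fun i => (Fintype.card A : ℂ)⁻¹ • ∑ a : A, ((i.1 a)⁻¹ : ℂˣ).val • ρ a
  have hcardA : (Fintype.card A : ℂ) ≠ 0 := Nat.cast_ne_zero.2 Fintype.card_ne_zero
  have he : ∀ i j : O, ∀ v ∈ Wo j, e i v = if i = j then v else 0 := by
    intro i j v hv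
    simp only [e, LinearMap.smul_apply, LinearMap.sum_apply]
    rw [Finset.sum_congr rfl fun a _ => show ((i.1 a)⁻¹ : ℂˣ).val • ρ a v =
      ((Units.coeHom ℂ).comp (j.1 * i.1⁻¹) a) • v by rw [hv a, smul_smul]; simp [mul_comm],
      ← Finset.sum_smul, sum_hom_units]
    by_cases hij : i = j
    · subst hij
      rw [if_pos (by ext a; simp), if_pos rfl, smul_smul, inv_mul_cancel₀ hcardA, one_smul]
    · rw [if_neg (fun h => hij (Subtype.ext (MonoidHom.ext fun a => by
        have h1 : (j.1 * i.1⁻¹) a = 1 := Units.ext (DFunLike.congr_fun h a)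
        exact (mul_inv_eq_one.1 (by simpa using h1)).symm))), if_neg hij]
      simp
  let Ψ : (∀ i, Wo i) →ₗ[ℂ] V := ∑ i, (Wo i).subtype.comp (LinearMap.proj i)
  have hΨ : ∀ w, Ψ w = ∑ i, (w i : V) := fun w => by simp [Ψ]
  have hΨinj : Function.Injective Ψ := by
    intro w w' h
    funext j
    have h' := congrArg (e j) h
    rw [hΨ, hΨ, map_sum, map_sum, Finset.sum_congr rfl (fun i _ => he j i _ (w i).2),
      Finset.sum_congr rfl (fun i _ => he j i _ (w' i).2), Finset.sum_ite_eq, Finset.sum_ite_eq,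
      if_pos (Finset.mem_univ j), if_pos (Finset.mem_univ j)] at h'
    exact Subtype.ext h'
  have hmem : ∀ (i : O) (v : V), v ∈ Wo i → v ∈ LinearMap.range Ψ := fun i v hv =>
    ⟨Pi.single i ⟨v, hv⟩, by
      rw [hΨ, Finset.sum_eq_single i (fun j _ hj => by simp [hj]) (by simp), Pi.single_eq_same]⟩
  have hsurj : LinearMap.range Ψ = ⊤ := by
    refine (hirr _ ?_).resolve_left fun h => hv₀ ?_
    · rintro g _ ⟨w, rfl⟩
      rw [hΨ, map_sum]
      refine sum_mem fun i _ => hmem (g • i) _ ?_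
      exact hsmul g i.1 _ (w i).2
    · exact (Submodule.eq_bot_iff _).1 h v₀ (hmem o₀ v₀ hv₀W)
  have hdec : ∀ v : V, ∃ w : ∀ i, Wo i, v = ∑ i, (w i : V) := fun v => by
    obtain ⟨w, hw⟩ := (LinearMap.range_eq_top.1 hsurj) v
    exact ⟨w, by rw [← hΨ, hw]⟩
  set d := Module.finrank ℂ (Wo o₀) with hd
  have hdim : ∀ i : O, Module.finrank ℂ (Wo i) = d := by
    have hle : ∀ (g : G) (i : O), Module.finrank ℂ (Wo i) ≤ Module.finrank ℂ (Wo (g • i)) := fun g i =>
      LinearMap.finrank_le_finrank_of_injective (f := (ρ g).restrict (fun v hv => hsmul g i.1 v hv))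
        fun x y h => Subtype.ext (by
          have h' : ρ g⁻¹ (ρ g x) = ρ g⁻¹ (ρ g y) := congrArg (ρ g⁻¹) (congrArg Subtype.val h :)
          simpa [happ] using h')
    intro i
    obtain ⟨g, hg⟩ := i.2
    obtain rfl : g • o₀ = i := Subtype.ext hg
    refine le_antisymm ((hle g⁻¹ _).trans_eq (by rw [inv_smul_smul])) (hle g o₀)
  set m := Fintype.card O with hm
  have hmd : m * d = Module.finrank ℂ V := by
    rw [← LinearEquiv.finrank_eq (LinearEquiv.ofBijective Ψ ⟨hΨinj, LinearMap.range_eq_top.1 hsurj⟩),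
      Module.finrank_pi_fintype, Finset.sum_congr rfl fun i _ => hdim i, Finset.sum_const, Finset.card_univ,
      smul_eq_mul]
  have hd0 : 0 < d := Nat.pos_of_ne_zero fun h =>
    hv₀ ((Submodule.eq_bot_iff _).1 (Submodule.finrank_eq_zero.1 (hd ▸ h)) v₀ hv₀W)
  have hm2 : 2 ≤ m := by
    by_contra! hlt
    have hsub : Subsingleton O := Fintype.card_le_one_iff_subsingleton.1 (by omega)
    refine hAc fun a ha => Subgroup.mem_center_iff.2 fun g => hρ (LinearMap.ext fun v => ?_)
    have hsc : ∀ u : V, ρ a u = (χ₀ ⟨a, ha⟩ : ℂ) • u := fun u => by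
      obtain ⟨w, rfl⟩ := hdec u
      rw [map_sum, Finset.smul_sum]
      refine Finset.sum_congr rfl fun i _ => ?_
      obtain rfl : i = o₀ := Subsingleton.elim _ _
      exact (w o₀).2 ⟨a, ha⟩
    rw [← happ, ← happ, hsc, hsc, map_smul]
  have hdr : d < r := by nlinarith
  set K := (MulAction.toPermHom G O).ker with hK
  have hKW : ∀ i : O, ∀ k : K, ∀ v ∈ Wo i, (ρ.comp K.subtype) k v ∈ Wo i := fun i k v hv => by
    have h := hsmul (k : G) i.1 v hv
    have hk : (k : G) • i = i := Equiv.Perm.congr_fun (MonoidHom.mem_ker.1 k.2) i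
    rw [show (k : G) • i.1 = i.1 from congrArg Subtype.val hk] at h
    exact h
  let fK : ∀ i : O, K →* (Module.End ℂ (Wo i))ˣ := fun i => resHom (ρ.comp K.subtype) (Wo i) (hKW i)
  haveI : ∀ i, Finite (fK i).range := fun i => Finite.of_surjective _ (fK i).rangeRestrict_surjective
  obtain ⟨ΦK, hΦK⟩ := exists_embedding fK fun k hk => Subtype.ext (hρ (LinearMap.ext fun v => by
    obtain ⟨w, rfl⟩ := hdec v
    rw [map_sum, map_sum]
    refine Finset.sum_congr rfl fun i _ => ?_
    rw [Subgroup.coe_one, map_one]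
    exact congrArg (fun u : (Module.End ℂ (Wo i))ˣ => (((u : Module.End ℂ (Wo i)) (w i) : Wo i) : V)) (hk i)))
  have hKcb : CB (K ⧸ fittingSubgroup K) ((3 ^ (d - 1)) ^ m) :=
    cb_of_injective ΦK hΦK (cb_pi_fintype fun i =>
      cb_resHom hIH (ρ.comp K.subtype) (Wo i) (hKW i) (hdim i).le hdr)
  -- the top group
  set ι : K →* G ⧸ fittingSubgroup G := (QuotientGroup.mk' _).comp K.subtype with hι
  have hιker : ι.ker = fittingSubgroup K := by
    have h := CfsgLib.Solvable.map_subtype_fittingSubgroup_eq K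
    ext x
    rw [hι, MonoidHom.mem_ker, MonoidHom.comp_apply, QuotientGroup.mk'_apply, QuotientGroup.eq_one_iff,
      K.coe_subtype]
    constructor
    · intro hx
      have : (x : G) ∈ (fittingSubgroup K).map K.subtype := h.symm ▸ ⟨hx, x.2⟩
      obtain ⟨y, hy, hyx⟩ := this
      rwa [← Subtype.ext hyx]
    · intro hx
      exact (h.le ⟨x, hx, rfl⟩).1
  have hrange : CB ι.range ((3 ^ (d - 1)) ^ m) :=
    cb_of_injective ((QuotientGroup.quotientMulEquivOfEq hιker).toMonoidHom.comp
      (QuotientGroup.quotientKerEquivRange ι).symm.toMonoidHom)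
      ((QuotientGroup.quotientMulEquivOfEq hιker).injective.comp (QuotientGroup.quotientKerEquivRange ι).symm.injective)
      hKcb
  have hιn : ι.range.Normal := by
    rw [hι, MonoidHom.range_comp, K.range_subtype]
    exact (inferInstance : K.Normal).map _ (QuotientGroup.mk'_surjective _)
  haveI := hιn
  set P := (MulAction.toPermHom G O).range
  haveI : Group.IsSolvable P := Group.isSolvable_of_surjective (MulAction.toPermHom G O).rangeRestrict_surjective
  have htr : MulAction.IsPretransitive P O := ⟨fun i j => by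
    obtain ⟨g, hg⟩ := MulAction.exists_smul_eq G i j
    exact ⟨⟨_, g, rfl⟩, hg⟩⟩
  have hP : Nat.card P ^ 3 ≤ 24 ^ (m - 1) :=
    CfsgLib.SolvClass.card_solvable_transitive_pow_le m htr (by rw [Nat.card_eq_fintype_card]) (by omega)
  have hP' : Nat.card P ≤ 3 ^ (m - 1) := by
    refine (Nat.pow_le_pow_iff_left (show 3 ≠ 0 by norm_num)).1 (hP.trans ?_)
    rw [← pow_mul, mul_comm (m - 1), pow_mul]
    exact Nat.pow_le_pow_left (by norm_num) _
  have hidx : ι.range.index ≤ 3 ^ (m - 1) := by
    have hdiv : ι.range.index ∣ Nat.card P := by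
      rw [hι, MonoidHom.range_comp, K.range_subtype, show Nat.card P = K.index from (Subgroup.index_ker _).symm]
      exact Subgroup.index_map_dvd _ (QuotientGroup.mk'_surjective _)
    exact (Nat.le_of_dvd Nat.card_pos hdiv).trans hP'
  have hmain := cb_of_ker (QuotientGroup.mk' ι.range)
    (cb_of_injective (MulEquiv.subgroupCongr (QuotientGroup.ker_mk' ι.range)).toMonoidHom (MulEquiv.injective _) hrange)
    (cb_of_card (Q := (G ⧸ fittingSubgroup G) ⧸ ι.range) hidx)
  refine hmain.mono ?_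
  rw [← pow_mul, ← pow_add]
  refine Nat.pow_le_pow_right (by norm_num) ?_
  obtain ⟨d', hd'⟩ : ∃ d', d = d' + 1 := ⟨d - 1, by omega⟩
  rw [hd', Nat.mul_succ, mul_comm m d'] at hmd
  rw [hd', Nat.add_sub_cancel]
  omega

/-- The primitive case. -/
theorem cb_primitive {r : ℕ} [Group.IsSolvable G] (ρ : G →* Module.End ℂ V)
    (hρ : Function.Injective ρ) (hr : Module.finrank ℂ V ≤ r) [Nontrivial V]
    (hirr : ∀ W : Submodule ℂ V, (∀ g, ∀ v ∈ W, ρ g v ∈ W) → W = ⊥ ∨ W = ⊤)
    (hab : ∀ A : Subgroup G, A.Normal → (∀ a ∈ A, ∀ b ∈ A, a * b = b * a) → A ≤ Subgroup.center G) :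
    CB (G ⧸ fittingSubgroup G) (3 ^ (r - 1)) := by
  classical
  have happ : ∀ (x y : G) (v : V), ρ x (ρ y v) = ρ (x * y) v := fun x y v => by rw [map_mul]; rfl
  set F := fittingSubgroup G with hF
  set Zc := Subgroup.center G with hZc
  have hscal : ∀ z ∈ Zc, ∃ s : ℂ, ρ z = s • 1 := by
    intro z hz
    obtain ⟨s, hs⟩ := Module.End.exists_eigenvalue (ρ z)
    refine ⟨s, LinearMap.ext fun v => ?_⟩
    have htop : Module.End.eigenspace (ρ z) s = ⊤ := (hirr _ fun g w hw => by
      rw [Module.End.mem_eigenspace_iff] at hw ⊢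
      rw [happ, ← Subgroup.mem_center_iff.1 hz g, ← happ, hw, map_smul]).resolve_left hs
    have := Module.End.mem_eigenspace_iff.1 (htop ▸ Submodule.mem_top : v ∈ Module.End.eigenspace (ρ z) s)
    simpa using this
  have hcl := commutator_fitting_mem_center hab
  letI : CommGroup Zc := { Zc.toGroup with
    mul_comm := fun a b => Subtype.ext (Subgroup.mem_center_iff.1 b.2 a) }
  haveI : IsCyclic Zc := by
    choose s hs using fun z : Zc => hscal z z.2
    obtain ⟨v, hv⟩ := exists_ne (0 : V)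
    have hsv : ∀ z : Zc, ρ z v = s z • v := fun z => by rw [hs z]; rfl
    let sh : Zc →* ℂ :=
      { toFun := s
        map_one' := smul_left_injective ℂ hv (show s 1 • v = (1 : ℂ) • v by
          rw [← hsv, Subgroup.coe_one, map_one, one_smul]; rfl)
        map_mul' := fun a b => smul_left_injective ℂ hv (show s (a * b) • v = (s a * s b) • v by
          rw [← hsv, Subgroup.coe_mul, ← happ, hsv, map_smul, hsv, smul_smul, mul_comm]) }
    exact isCyclic_of_injective_ringHom sh fun a b h => Subtype.ext (hρ (by rw [hs a, hs b, show s a = s b from h]))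
  set Z := Zc.subgroupOf F with hZ
  haveI : Z.Normal := Subgroup.normal_subgroupOf
  letI : CommGroup (F ⧸ Z) := { QuotientGroup.Quotient.group Z with
    mul_comm := fun a b => by
      induction a using QuotientGroup.induction_on with | H u =>
      induction b using QuotientGroup.induction_on with | H w =>
      rw [← commutatorElement_eq_one_iff_mul_comm]
      change ((⁅u, w⁆ : F) : F ⧸ Z) = 1
      rw [QuotientGroup.eq_one_iff]
      exact Subgroup.mem_subgroupOf.2 (hcl u u.2 w w.2) }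
  let c₁ : F → F →* Zc := fun x => MonoidHom.mk' (fun y => ⟨⁅(x : G), (y : G)⁆, hcl x x.2 y y.2⟩)
    fun a b => Subtype.ext (CfsgLib.KGV.Ramified.comm_mul_right (hcl x x.2 b b.2))
  have hc₁ : ∀ x, Z ≤ (c₁ x).ker := fun x z hz => Subtype.ext
    (commutatorElement_eq_one_iff_mul_comm.2 (Subgroup.mem_center_iff.1 (Subgroup.mem_subgroupOf.1 hz) x))
  let c₂ : F →* (F ⧸ Z →* Zc) := MonoidHom.mk' (fun x => QuotientGroup.lift Z (c₁ x) (hc₁ x))
    fun a b => MonoidHom.ext fun q => by
      induction q using QuotientGroup.induction_on with | H y =>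
      exact Subtype.ext (CfsgLib.KGV.Ramified.comm_mul_left (hcl b b.2 y y.2))
  have hc₂ : Z ≤ c₂.ker := fun z hz => MonoidHom.ext fun q => by
    induction q using QuotientGroup.induction_on with | H y =>
    exact Subtype.ext (commutatorElement_eq_one_iff_mul_comm.2
      (Subgroup.mem_center_iff.1 (Subgroup.mem_subgroupOf.1 hz) y).symm)
  let c : F ⧸ Z →* F ⧸ Z →* Zc := QuotientGroup.lift Z c₂ hc₂
  have hc : ∀ x y : F, ((c (x : F ⧸ Z) (y : F ⧸ Z) : Zc) : G) = ⁅(x : G), (y : G)⁆ := fun _ _ => rfl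
  let θ₀ : G → MulAut (F ⧸ Z) := fun g => QuotientGroup.congr Z Z (MulAut.conjNormal (H := F) g) (by
    ext x
    simp only [Subgroup.mem_map, MulEquiv.coe_toMonoidHom]
    constructor
    · rintro ⟨y, hy, rfl⟩
      exact Subgroup.mem_subgroupOf.2 (by
        simpa using (inferInstance : Zc.Normal).conj_mem _ (Subgroup.mem_subgroupOf.1 hy) g)
    · intro hx
      refine ⟨MulAut.conjNormal (H := F) g⁻¹ x, Subgroup.mem_subgroupOf.2 ?_, Subtype.ext (by simp [mul_assoc])⟩
      simpa using (inferInstance : Zc.Normal).conj_mem _ (Subgroup.mem_subgroupOf.1 hx) g⁻¹)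
  have hθ₀ : ∀ (g : G) (x : F), θ₀ g (x : F ⧸ Z) = ((MulAut.conjNormal (H := F) g x : F) : F ⧸ Z) :=
    fun _ _ => rfl
  let θ : G →* MulAut (F ⧸ Z) := MonoidHom.mk' θ₀ fun g h => MulEquiv.ext fun q => by
    induction q using QuotientGroup.induction_on with | H y =>
    rw [MulAut.mul_apply, hθ₀, hθ₀, hθ₀, map_mul]; rfl
  have hθ : ∀ (g : G) (x : F), θ g (x : F ⧸ Z) = ((MulAut.conjNormal (H := F) g x : F) : F ⧸ Z) := hθ₀
  have hrad : ∀ L : Subgroup (F ⧸ Z), (∀ g, ∀ u ∈ L, θ g u ∈ L) → ∀ u ∈ L, (∀ v ∈ L, c u v = 1) → u = 1 := by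
    intro L hL u hu huv
    obtain ⟨x, rfl⟩ := QuotientGroup.mk_surjective u
    set M : Subgroup G := (L.comap (QuotientGroup.mk' Z)).map F.subtype with hM
    have hMn : M.Normal := ⟨by
      rintro _ ⟨y, hy, rfl⟩ g
      exact ⟨MulAut.conjNormal (H := F) g y, hL g _ hy, rfl⟩⟩
    have hxM : (x : G) ∈ M := ⟨x, hu, rfl⟩
    have hxC : (x : G) ∈ Subgroup.centralizer (M : Set G) := Subgroup.mem_centralizer_iff.2 (by
      rintro _ ⟨y, hy, rfl⟩
      have h := congrArg Subtype.val (huv _ hy)
      exact (commutatorElement_eq_one_iff_mul_comm.1 h).symm)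
    have := hab (M ⊓ Subgroup.centralizer (M : Set G)) inferInstance
      (fun a ha b hb => (Subgroup.mem_centralizer_iff.1 ha.2 b hb.1).symm) ⟨hxM, hxC⟩
    exact (QuotientGroup.eq_one_iff x).2 (Subgroup.mem_subgroupOf.2 this)
  have hnd : ∀ u, (∀ v, c u v = 1) → u = 1 := fun u h =>
    hrad ⊤ (fun _ _ _ => Subgroup.mem_top _) u (Subgroup.mem_top u) fun v _ => h v
  -- the kernel
  have hker : θ.ker ≤ F := by
    intro g hg
    have hgy : ∀ y : F, ⁅g, (y : G)⁆ ∈ Zc := fun y => by
      have h : θ g (y : F ⧸ Z) = (y : F ⧸ Z) := by rw [MonoidHom.mem_ker.1 hg]; rfl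
      rw [hθ, QuotientGroup.eq] at h
      have h' := (inferInstance : Zc.Normal).conj_mem _ (Subgroup.inv_mem _ (Subgroup.mem_subgroupOf.1 h)) (y : G)
      convert h' using 1
      simp [commutatorElement_def, mul_assoc]
    let lam₁ : F →* Zc := MonoidHom.mk' (fun y => ⟨⁅g, (y : G)⁆, hgy y⟩)
      fun a b => Subtype.ext (CfsgLib.KGV.Ramified.comm_mul_right (hgy b))
    let lam : F ⧸ Z →* Zc := QuotientGroup.lift Z lam₁ fun z hz => Subtype.ext
      (commutatorElement_eq_one_iff_mul_comm.2 (Subgroup.mem_center_iff.1 (Subgroup.mem_subgroupOf.1 hz) g))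
    obtain ⟨hfin, hle⟩ := CfsgLib.SolvBlock.card_hom_cyclic_le (A := Zc) (F ⧸ Z)
    have hcinj : Function.Injective c := (injective_iff_map_eq_one c).2 fun u hu =>
      hnd u fun v => DFunLike.congr_fun hu v
    obtain ⟨u, hu⟩ := (hcinj.bijective_of_nat_card_le hle).2 lam
    obtain ⟨x, rfl⟩ := QuotientGroup.mk_surjective u
    have hmem : (x : G)⁻¹ * g ∈ Subgroup.centralizer (F : Set G) := Subgroup.mem_centralizer_iff.2 fun y hy => by
      have h : ⁅(x : G), y⁆ = ⁅g, y⁆ :=
        congrArg Subtype.val (DFunLike.congr_fun hu ((⟨y, hy⟩ : F) : F ⧸ Z))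
      simp only [commutatorElement_def] at h
      have h' : (x : G) * y * (x : G)⁻¹ = g * y * g⁻¹ := mul_right_cancel h
      calc y * ((x : G)⁻¹ * g) = (x : G)⁻¹ * ((x : G) * y * (x : G)⁻¹) * g := by group
        _ = (x : G)⁻¹ * (g * y * g⁻¹) * g := by rw [h']
        _ = (x : G)⁻¹ * g * y := by group
    have := CfsgLib.Solvable.centralizer_fittingSubgroup_le hmem
    simpa using F.mul_mem x.2 this
  have hFker : F ≤ θ.ker := fun f hf => MonoidHom.mem_ker.2 (MulEquiv.ext fun q => by
    induction q using QuotientGroup.induction_on with | H y =>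
    rw [hθ, MulAut.one_apply, QuotientGroup.eq, Subgroup.mem_subgroupOf]
    have h := (inferInstance : Zc.Normal).conj_mem _ (inv_mem (hcl f hf y y.2)) (y : G)⁻¹
    simpa [commutatorElement_def, mul_assoc] using h)
  haveI : Group.IsSolvable θ.range := Group.isSolvable_of_surjective θ.rangeRestrict_surjective
  obtain ⟨e, he0, hcard, hcb⟩ := layer_bound (A := Zc) (Nat.card (F ⧸ Z)) rfl c
    (fun u => by
      induction u using QuotientGroup.induction_on with | H y =>
      exact Subtype.ext (commutatorElement_eq_one_iff_mul_comm.2 rfl))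
    θ.range (by
      rintro _ ⟨g, rfl⟩ u v
      induction u using QuotientGroup.induction_on with | H x =>
      induction v using QuotientGroup.induction_on with | H y =>
      refine Subtype.ext ?_
      rw [hθ, hθ, hc, hc, MulAut.conjNormal_apply, MulAut.conjNormal_apply]
      have h : ⁅g * (x : G) * g⁻¹, g * (y : G) * g⁻¹⁆ = g * ⁅(x : G), (y : G)⁆ * g⁻¹ := by
        simp only [commutatorElement_def]; group
      rw [h, Subgroup.mem_center_iff.1 (hcl x x.2 y y.2) g, mul_inv_cancel_right])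
    (fun L hL u hu h => hrad L (fun g w hw => hL _ ⟨g, rfl⟩ w hw) u hu h) inferInstance
  -- the size of the layer
  have hU : Nat.card (F ⧸ Z) ≤ Module.finrank ℂ V * Module.finrank ℂ V := by
    cases nonempty_fintype (F ⧸ Z)
    let rep : F ⧸ Z → G := fun u => ((Quotient.out u : F) : G)
    have htr : ∀ u u' : F ⧸ Z, u ≠ u' → LinearMap.trace ℂ V (ρ ((rep u)⁻¹ * rep u')) = 0 := by
      intro u u' hne
      set x : F := (Quotient.out u)⁻¹ * Quotient.out u'
      have hx : (x : F ⧸ Z) ≠ 1 := fun h => hne (by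
        rw [QuotientGroup.mk_mul, QuotientGroup.mk_inv, QuotientGroup.out_eq', QuotientGroup.out_eq',
          inv_mul_eq_one] at h
        exact h)
      obtain ⟨v, hv⟩ : ∃ v, c (x : F ⧸ Z) v ≠ 1 := by
        by_contra! h; exact hx (hnd _ h)
      obtain ⟨y, rfl⟩ := QuotientGroup.mk_surjective v
      obtain ⟨s, hs⟩ := hscal _ (hcl y y.2 x x.2)
      have hne1 : ⁅(y : G), (x : G)⁆ ≠ 1 := fun h => hv (Subtype.ext (by
        rw [hc, Subgroup.coe_one, commutatorElement_eq_one_iff_mul_comm]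
        exact (commutatorElement_eq_one_iff_mul_comm.1 h).symm))
      have hs1 : s ≠ 1 := fun h => hne1 (hρ (by rw [hs, h, one_smul, map_one]))
      have hconj : (y : G) * x * (y : G)⁻¹ = ⁅(y : G), (x : G)⁆ * x := by
        simp [commutatorElement_def, mul_assoc]
      have h1 : LinearMap.trace ℂ V (ρ ((y : G) * x * (y : G)⁻¹)) = LinearMap.trace ℂ V (ρ (x : G)) := by
        rw [map_mul, LinearMap.trace_mul_comm, ← map_mul, inv_mul_cancel_left]
      rw [hconj, map_mul, hs, smul_mul_assoc, one_mul, map_smul, smul_eq_mul] at h1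
      have h2 : (s - 1) * LinearMap.trace ℂ V (ρ (x : G)) = 0 := by rw [sub_mul, h1, one_mul, sub_self]
      have := (mul_eq_zero.1 h2).resolve_left (sub_ne_zero.2 hs1)
      simpa [x, rep] using this
    have hli : LinearIndependent ℂ fun u : F ⧸ Z => ρ (rep u) := by
      rw [Fintype.linearIndependent_iff]
      intro g hg u
      have h := congrArg (fun T : Module.End ℂ V => LinearMap.trace ℂ V (ρ (rep u)⁻¹ * T)) hg
      simp only [Finset.mul_sum, mul_smul_comm, ← map_mul, map_sum, map_smul, mul_zero, map_zero,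
        smul_eq_mul] at h
      rw [Finset.sum_eq_single u (fun u' _ hne => by rw [htr u u' (Ne.symm hne), mul_zero])
        (fun h => absurd (Finset.mem_univ u) h), inv_mul_cancel, map_one, LinearMap.trace_one] at h
      exact (mul_eq_zero.1 h).resolve_right (Nat.cast_ne_zero.2 Module.finrank_pos.ne')
    have h := hli.fintype_card_le_finrank
    rwa [Module.finrank_linearMap, ← Nat.card_eq_fintype_card] at h
  have her : e ≤ r := by
    rw [hcard] at hU
    exact le_trans (by nlinarith) hr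
  refine (cb_of_injective (QuotientGroup.kerLift θ |>.comp
    (QuotientGroup.quotientMulEquivOfEq (le_antisymm hFker hker)).toMonoidHom |>.codRestrict θ.range ?_) ?_
    hcb).mono (Nat.pow_le_pow_right (by norm_num) (by omega))
  · intro q
    induction q using QuotientGroup.induction_on with | H g =>
    exact ⟨g, rfl⟩
  · intro a b h
    exact ((QuotientGroup.kerLift_injective θ).comp (MulEquiv.injective _)) (congrArg Subtype.val h)

/-- The bound for every subgroup. -/
theorem cb_quotient_fitting : ∀ (r : ℕ) (G : Type) [Group G] [Finite G], Group.IsSolvable G →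
    ∀ (V : Type) [AddCommGroup V] [Module ℂ V] [FiniteDimensional ℂ V], Module.finrank ℂ V ≤ r →
    ∀ ρ : G →* Module.End ℂ V, Function.Injective ρ → CB (G ⧸ fittingSubgroup G) (3 ^ (r - 1)) := by
  intro r
  induction r using Nat.strong_induction_on with
  | _ r ih =>
  intro G _ _ hG V _ _ _ hr ρ hρ
  haveI := hG
  rcases subsingleton_or_nontrivial V with hV | hV
  · haveI : Subsingleton G := ⟨fun x y => hρ (LinearMap.ext fun v => Subsingleton.elim _ _)⟩
    haveI : Subsingleton (G ⧸ fittingSubgroup G) := QuotientGroup.mk_surjective.subsingleton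
    exact cb_of_subsingleton (Nat.one_le_pow _ _ (by norm_num))
  by_cases hirr : ∀ W : Submodule ℂ V, (∀ g, ∀ v ∈ W, ρ g v ∈ W) → W = ⊥ ∨ W = ⊤
  · by_cases hab : ∀ A : Subgroup G, A.Normal → (∀ a ∈ A, ∀ b ∈ A, a * b = b * a) → A ≤ Subgroup.center G
    · exact cb_primitive ρ hρ hr hirr hab
    · push Not at hab
      obtain ⟨A, hAn, hA, hAc⟩ := hab
      exact cb_imprimitive ih ρ hρ hr hirr A hAn hA hAc
  · push Not at hirr
    obtain ⟨W, hW, h0, h1⟩ := hirr
    exact cb_reducible ih ρ hρ hr W hW h0 h1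

end CfsgLib.SolvLinClass
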